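import Groth.Agent.AbVar.K511.TrOne
import Groth.Agent.VarietyB.ProjForm
import Groth.Agent.VarietyB.HHPush
import Groth.Agent.Fga.MultInt
import Groth.Agent.Fga.HShift
import Groth.Agent.Ega2.QCohLocal
import Groth.Agent.CohqB.SerTw

/-!
# Cohomology injects under a finite étale cover of degree prime to the characteristic
-/

set_option autoImplicit false
universe u
open CategoryTheory CategoryTheory.Limits AlgebraicGeometry TopologicalSpace Opposite

namespace K511.TrSplit

open Groth.Agent Groth.Agent.Fdesc.LocGen Groth.Agent.Pi1C.EtTraceSch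
open Groth.Agent.Fga.HShift

theorem nsmul_app {X : Scheme.{u}} {M N : X.Modules} (φ : M ⟶ N) (n : ℕ) (U : X.Opens) (m : Γ(M, U)) :
    (n • φ).app U m = n • φ.app U m := by
  induction n with
  | zero =>
    rw [zero_smul, zero_smul]
    rfl
  | succ n ih =>
    rw [succ_nsmul, succ_nsmul, ← ih]
    rfl

variable {X Y : Scheme.{u}} (f : X ⟶ Y)

/-- The structure map `O_Y ⟶ f_* O_X`. -/
noncomputable def unitMor : Coh.structureModule Y ⟶ (Scheme.Modules.pushforward f).obj (Coh.structureModule X) :=
  mkHom (M := Coh.structureModule Y) (N := (Scheme.Modules.pushforward f).obj (Coh.structureModule X))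
    (fun U => (f.app U).hom.toAddMonoidHom)
    (fun U a m => map_mul (f.app U).hom a m)
    (fun _ _ h m => (congrArg (fun φ => φ.hom m) (f.naturality (homOfLE h).op)))

variable [IsFinite f] [Etale f]

/-- The trace `f_* O_X ⟶ O_Y`. -/
noncomputable def trMor : (Scheme.Modules.pushforward f).obj (Coh.structureModule X) ⟶ Coh.structureModule Y :=
  mkHom (M := (Scheme.Modules.pushforward f).obj (Coh.structureModule X)) (N := Coh.structureModule Y)
    (fun U => tr f U)
    (fun U a m => tr_mul f U a m)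
    (fun _ _ h m => tr_res f h (f.preimage_mono h) m)

theorem unitMor_trMor {N : ℕ} (hN : ∀ y : Y, f.finrank y = N) :
    unitMor f ≫ trMor f = N • 𝟙 (Coh.structureModule Y) := by
  ext U a
  refine Eq.trans ?_ (nsmul_app _ N U a).symm
  change tr f U ((f.app U).hom a) = N • (show Γ(Y, U) from a)
  have h1 := tr_mul f U a 1
  rw [mul_one, TrOne.tr_one f hN] at h1
  rw [nsmul_eq_mul, mul_comm]
  exact h1

/-- **Injectivity of cohomology along a finite étale cover of degree invertible in `k`.** -/
theorem subsingleton_of_pullback (k : Type u) [Field k] (y : Y ⟶ Spec (CommRingCat.of k)) {N : ℕ}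
    (hN : ∀ y : Y, f.finrank y = N) (hk : (N : k) ≠ 0) {L : Y.Modules} (hL : PicF.IsInvertible L) (j : ℕ)
    (h : Subsingleton (Coh.HH X ((Scheme.Modules.pullback f).obj L) j)) : Subsingleton (Coh.HH Y L j) := by
  let _ : Y.Over (Spec (CommRingCat.of k)) := ⟨y⟩
  let _ : X.Over (Spec (CommRingCat.of k)) := ⟨f ≫ y⟩
  have hL' : PicF.IsInvertible ((Scheme.Modules.pullback f).obj L) := isInvertible_pullback f hL
  obtain ⟨e1⟩ := VarietyB.HHPush.exists_linearEquiv f k rfl ((Scheme.Modules.pullback f).obj L)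
    (Ega2.QCohLocal.isQCoh_of_isInvertible hL') j
  have h2 : Subsingleton (Coh.HH Y ((Coh.push f).obj ((Scheme.Modules.pullback f).obj L)) j) :=
    (e1.toEquiv.subsingleton_congr).mpr h
  have e2 := Ega2.Tens.swap _ _ ≪≫ VarietyB.ProjForm.projIsoUnit f (Fga.MultInt.hasBases hL)
  have h3 : Subsingleton (Coh.HH Y (CohB1.tensorMod ((Scheme.Modules.pushforward f).obj
      (Coh.structureModule X)) L) j) := subsingleton_of_iso e2.symm j h2
  have e3 : CohB1.tensorMod (Coh.structureModule Y) L ≅ L := Ega2.Tens.swap _ _ ≪≫ Ega2.Tens.runit _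
  refine subsingleton_of_iso e3 j ?_
  let Φ : Y.Modules ⥤ AddCommGrpCat.{u} := CohqB.SerTw.tw L ⋙ HHF Y j
  have hadd : Φ.Additive := inferInstance
  have h4 : IsZero (Φ.obj ((Scheme.Modules.pushforward f).obj (Coh.structureModule X))) :=
    (isZero_HHF_iff j _).2 h3
  have h5 : Φ.map (unitMor f) ≫ Φ.map (trMor f) = N • 𝟙 _ := by
    rw [← Φ.map_comp, unitMor_trMor f hN, Φ.map_nsmul, Φ.map_id]
  have h6 : N • 𝟙 (Φ.obj (Coh.structureModule Y)) = 0 := by
    rw [← h5, h4.eq_of_tgt (Φ.map (unitMor f)) 0, zero_comp]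
  refine subsingleton_of_forall_eq 0 fun x => ?_
  have h7 : N • x = 0 := by
    exact congrArg (fun φ => φ.hom x) h6
  have h8 : (N : k) • x = 0 := by rw [Nat.cast_smul_eq_nsmul, h7]
  exact (smul_eq_zero.mp h8).resolve_left hk

end K511.TrSplit
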