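import Groth.Agent.AbVar.K511.TwoVan
import Groth.Agent.AbVar.K511.TrSplit
import Groth.Agent.S1842
import Groth.Agent.Grpsch.CubePow
import Groth.Agent.Grpsch.MulFin
import Groth.Agent.Grpsch.AbBC

/-!
# Vanishing of the higher cohomology of ample invertible modules on abelian varieties

`vanish`: `K` a field, `A` a proper geometrically integral group scheme over `K`, `L` ample: `H^j(A, L) = 0`, `j > 0`.
`exists_good`: there are `n` with `[n]` finite étale of degree `n^{2g}` prime to the characteristic,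
`H^j(A, [n]^*L) = 0` for `j > 0` and `H^0(A, [n]^*L) ≠ 0`.
-/

set_option autoImplicit false
universe u
open CategoryTheory CategoryTheory.Limits MonoidalCategory CartesianMonoidalCategory MonObj GrpObj AlgebraicGeometry
open TopologicalSpace

namespace K511.AmpleVan

open Groth.Agent Groth.Agent.Grpsch Groth.Agent.Grpsch.PicGrp Groth.Agent.Grpsch.Cube
open Groth.Agent.Pic13.H116.Tw Groth.Agent.Pic13.H116.Num Groth.Agent.Pic13.H116.SE Groth.Agent.Pic13.H116.Sec

/-- The product of two ample classes is ample. -/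
theorem isAmple_mul {X : Scheme.{u}} {a b : Pic X} (ha : CohB1.IsAmple (rep a)) (hb : CohB1.IsAmple (rep b)) :
    CohB1.IsAmple (rep (a * b)) := by
  have h1 : CohB1.IsAmple (CohB1.tensorMod (rep a) (rep b)) :=
    Groth.Agent.Ega2.Weight.isAmple_tensorMod ha hb.1 fun x ↦ by
      obtain ⟨m, s, hs, -⟩ := hb.2.2 x
      exact ⟨m, s, hs⟩
  have h2 := Pic13.H116.Final.isAmple_rep h1
  have h3 : mk _ h1.1 = a * b := by
    conv_rhs => rw [← mk_rep a, ← mk_rep b]
    rfl
  rwa [h3] at h2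

/-- Sections of a product of effective classes. -/
theorem hz_mul (k : Type u) [Field k] {X : Scheme.{u}} [X.Over (Spec (CommRingCat.of k))]
    [IsProper (X ↘ Spec (CommRingCat.of k))] [IsIntegral X] {a b : Pic X} (ha : 0 < hz k (rep a))
    (hb : 0 < hz k (rep b)) : 0 < hz k (rep (a * b)) := by
  have := VarietyA.TwistExist.isNoetherian k X
  obtain ⟨C, hC, hCs, hse⟩ := se_of_pos k hb
  exact lt_of_lt_of_le ha ((hse.unit_cut a).hz_left_le k (rep_coh _))

section AV

variable {K : Type u} [Field K] (A : Over (Spec (CommRingCat.of K))) [GrpObj A] [IsProper A.hom]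
  [GeometricallyIntegral A.hom]

theorem exists_good (L : A.left.Modules) (hL : CohB1.IsAmple L) :
    ∃ n : ℕ, 1 ≤ n ∧ (n : K) ≠ 0 ∧
      (∀ j : ℕ, 0 < j → Subsingleton (Coh.HH A.left ((Scheme.Modules.pullback (𝟙 A ^ n).left).obj L) j)) ∧
      Nontrivial (Coh.HH A.left ((Scheme.Modules.pullback (𝟙 A ^ n).left).obj L) 0) := by
  have hint : IsIntegral A.left := GeometricallyIntegral.isIntegral_of_subsingleton A.hom
  let _ : A.left.Over (Spec (CommRingCat.of K)) := ⟨A.hom⟩
  have hprop : IsProper (A.left ↘ Spec (CommRingCat.of K)) := inferInstanceAs (IsProper A.hom)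
  set l : Pic A.left := mk L hL.1 with hl
  have hla : CohB1.IsAmple (rep l) := Pic13.H116.Final.isAmple_rep hL
  have := MulFin.isIso_inv_left A
  have hia : CohB1.IsAmple (rep (pl (𝟙 A)⁻¹ l)) := TwoVan.isAmple_pull ((𝟙 A)⁻¹ : A ⟶ A).left hla
  set h : Pic A.left := l * pl (𝟙 A)⁻¹ l with hh
  have hha : CohB1.IsAmple (rep h) := isAmple_mul hla hia
  obtain ⟨p₀, H⟩ := TwoVan.vanishing K hla hha (Coh.structureModule A.left)
    (Fdesc.StructMod.isCoh_structureModule A.left)
  obtain ⟨q₀, hq₀⟩ := exists_pos_rep K hla (1 : Pic A.left)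
  obtain ⟨q₁, hq₁⟩ := exists_pos_rep K hha (1 : Pic A.left)
  -- choice of n
  obtain ⟨n, hn1, hnK, hn2, hn3, hn4⟩ : ∃ n : ℕ, 1 ≤ n ∧ (n : K) ≠ 0 ∧ p₀ ≤ ((n * (n - 1) / 2 : ℕ) : ℤ) ∧
      q₀ ≤ (n : ℤ) ∧ q₁ ≤ ((n * (n - 1) / 2 : ℕ) : ℤ) := by
    set M : ℕ := 3 + p₀.toNat + q₀.toNat + q₁.toNat with hM
    have key : ∀ n : ℕ, M ≤ n → 1 ≤ n ∧ p₀ ≤ ((n * (n - 1) / 2 : ℕ) : ℤ) ∧
      q₀ ≤ (n : ℤ) ∧ q₁ ≤ ((n * (n - 1) / 2 : ℕ) : ℤ) := by
      intro n hn
      have h1 : n ≤ n * (n - 1) / 2 := by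
        rw [Nat.le_div_iff_mul_le (by norm_num)]
        exact Nat.mul_le_mul_left n (by omega)
      omega
    by_cases hMK : (M : K) = 0
    · refine ⟨M + 1, (key _ (by omega)).1, ?_, (key _ (by omega)).2⟩
      rw [Nat.cast_add, hMK, zero_add, Nat.cast_one]
      exact one_ne_zero
    · exact ⟨M, (key _ le_rfl).1, hMK, (key _ le_rfl).2⟩
  have hpow : pl (𝟙 A ^ n) l = l ^ n * h ^ ((n * (n - 1) / 2 : ℕ) : ℤ) := by
    have h1 : pl (𝟙 A) l = l := pull_id _
    have h2 : n * (n + 1) / 2 = n + n * (n - 1) / 2 := by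
      have e1 : n * (n + 1) = n * (n - 1) + n * 2 := by
        obtain ⟨m, rfl⟩ : ∃ m, n = m + 1 := ⟨n - 1, by omega⟩
        simp only [Nat.add_sub_cancel]
        ring
      rw [e1, Nat.add_mul_div_right _ _ (by norm_num), add_comm]
    rw [pl_pow, h1, h2, zpow_natCast, hh, _root_.mul_pow, pow_add, _root_.mul_assoc]
  have hiso : Nonempty (rep (l ^ n * h ^ ((n * (n - 1) / 2 : ℕ) : ℤ)) ≅
      (Scheme.Modules.pullback (𝟙 A ^ n).left).obj L) := by
    rw [← mk_eq_iff (rep_inv _) (Fdesc.LocGen.isInvertible_pullback _ hL.1), mk_rep, ← hpow]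
    rfl
  obtain ⟨e⟩ := hiso
  refine ⟨n, hn1, hnK, fun j hj => ?_, ?_⟩
  · have h1 := H n _ hn2 j hj
    obtain ⟨e1⟩ := tw_unit (l ^ n * h ^ ((n * (n - 1) / 2 : ℕ) : ℤ))
    exact Fga.HShift.subsingleton_of_iso (e1 ≪≫ e) j h1
  · have h1 := hq₀ n hn3
    have h2 := hq₁ _ hn4
    rw [_root_.one_mul] at h1 h2
    rw [zpow_natCast] at h1
    have h3 := hz_mul K h1 h2
    rw [hz_iso K e] at h3
    have := Module.nontrivial_of_finrank_pos h3
    exact this

omit [GrpObj A] in
/-- An abelian variety has a finite dimension. -/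
theorem exists_dim : ∃ g : ℕ, topologicalKrullDim A.left = g := by
  have hint : IsIntegral A.left := GeometricallyIntegral.isIntegral_of_subsingleton A.hom
  let _ : A.left.Over (Spec (CommRingCat.of K)) := ⟨A.hom⟩
  have hprop : IsProper (A.left ↘ Spec (CommRingCat.of K)) := inferInstanceAs (IsProper A.hom)
  obtain ⟨d, hd⟩ := EtpbcA.CdFinDim.exists_dim_le (A.left ↘ Spec (CommRingCat.of K))
  have h0 := Fga.IntNum0.topologicalKrullDim_nonneg A.left
  generalize topologicalKrullDim A.left = D at *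
  induction D using WithBot.recBotCoe with
  | bot => exact absurd h0 (by simp)
  | coe D =>
    induction D using ENat.recTopCoe with
    | top =>
      exfalso
      have : (⊤ : ℕ∞) ≤ (d : ℕ∞) := by exact_mod_cast hd
      exact absurd this (by simp)
    | coe D => exact ⟨D, rfl⟩

/-- **Vanishing**: the higher cohomology of an ample invertible module on an abelian variety is zero. -/
theorem vanish (L : A.left.Modules) (hL : CohB1.IsAmple L) (j : ℕ) (hj : 0 < j) :
    Subsingleton (Coh.HH A.left L j) := by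
  obtain ⟨n, hn1, hnK, hv, -⟩ := exists_good A L hL
  have hint : IsIntegral A.left := GeometricallyIntegral.isIntegral_of_subsingleton A.hom
  have hnK' : ((n : ℤ) : K) ≠ 0 := by rwa [Int.cast_natCast]
  have het := AbBC.etale_zpow A hnK'
  rw [zpow_natCast] at het
  have hfin := MulFin.isFinite_pow A n hn1
  obtain ⟨g, hg⟩ := exists_dim A
  have h3 := (S1842.pos_case K A g hg n hn1).2.2
  refine TrSplit.subsingleton_of_pullback (𝟙 A ^ n).left K A.hom (N := n ^ (2 * g)) h3 ?_ hL.1 j (hv j hj)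
  rw [Nat.cast_pow]
  exact pow_ne_zero _ hnK

theorem isCoh_of_isInvertible {L : A.left.Modules} (hL : PicF.IsInvertible L) : Coh.IsCoh L := by
  let _ : A.left.Over (Spec (CommRingCat.of K)) := ⟨A.hom⟩
  have hprop : IsProper (A.left ↘ Spec (CommRingCat.of K)) := inferInstanceAs (IsProper A.hom)
  have hN := VarietyA.TwistExist.isNoetherian K A.left
  obtain ⟨e⟩ := rep_mk hL
  exact Sga67.CohBasic.isCoh_of_iso e (rep_coh _)

/-- The ample module has a nonzero section as soon as the Euler characteristic is multiplicative for `[n]`. -/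
theorem nontrivial_of_euler (L : A.left.Modules) (hL : CohB1.IsAmple L) (n N : ℕ)
    (hv : ∀ j : ℕ, 0 < j → Subsingleton (Coh.HH A.left ((Scheme.Modules.pullback (𝟙 A ^ n).left).obj L) j))
    (h0 : Nontrivial (Coh.HH A.left ((Scheme.Modules.pullback (𝟙 A ^ n).left).obj L) 0))
    (hmul : @Curv2.euler K _ A.left ⟨A.hom⟩ ((Scheme.Modules.pullback (𝟙 A ^ n).left).obj L) =
      (N : ℤ) * @Curv2.euler K _ A.left ⟨A.hom⟩ L) : Nontrivial (Coh.HH A.left L 0) := by
  have hint : IsIntegral A.left := GeometricallyIntegral.isIntegral_of_subsingleton A.hom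
  let _ : A.left.Over (Spec (CommRingCat.of K)) := ⟨A.hom⟩
  have hprop : IsProper (A.left ↘ Spec (CommRingCat.of K)) := inferInstanceAs (IsProper A.hom)
  have hN := VarietyA.TwistExist.isNoetherian K A.left
  have h1 : Curv2.euler K A.left ((Scheme.Modules.pullback (𝟙 A ^ n).left).obj L) =
      hz K ((Scheme.Modules.pullback (𝟙 A ^ n).left).obj L) := chi_eq_hz K fun i hi => hv i hi
  have h2 : Curv2.euler K A.left L = hz K L := chi_eq_hz K fun i hi => vanish A L hL i hi
  change Curv2.euler K A.left ((Scheme.Modules.pullback (𝟙 A ^ n).left).obj L) =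
      (N : ℤ) * Curv2.euler K A.left L at hmul
  rw [h1, h2] at hmul
  have hcoh : Coh.IsCoh ((Scheme.Modules.pullback (𝟙 A ^ n).left).obj L) :=
    isCoh_of_isInvertible A (Fdesc.LocGen.isInvertible_pullback (𝟙 A ^ n).left hL.1)
  have hfin : Module.Finite K (Coh.HH A.left ((Scheme.Modules.pullback (𝟙 A ^ n).left).obj L) 0) :=
    finite_HH K hcoh 0
  have h3 : 0 < hz K ((Scheme.Modules.pullback (𝟙 A ^ n).left).obj L) := Module.finrank_pos
  have h4 : 0 < hz K L := by
    rcases Nat.eq_zero_or_pos (hz K L) with h | h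
    · rw [h, Nat.cast_zero, mul_zero] at hmul
      exact absurd (by exact_mod_cast hmul) h3.ne'
    · exact h
  exact Module.nontrivial_of_finrank_pos h4

end AV

end K511.AmpleVan

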