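import Groth.Agent.AbVar.K511.SkyDim
import Groth.Agent.S0020

/-!
# The higher direct images of the Poincaré module to the abelian variety
-/

set_option autoImplicit false
universe u

open CategoryTheory CategoryTheory.Limits MonoidalCategory CartesianMonoidalCategory MonObj GrpObj AlgebraicGeometry
open IsLocalRing

namespace K511.PC1

open Groth.Agent Groth.Agent.Grpsch.PicGrp Groth.Agent.Grpsch.Cube Groth.Agent.Fga.RigGrp K732.Cov K732.PicZero
  K732.RigSheaf K732.Dual K732.CubeSec K732.Transp K732.Prim K732.BC K732.Bidual K524.Kun K524.PicZeroVan K511.PFib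
  K511.PSide K511.Poin2 K511.DimEq

variable {k : Type u} [Field k] {A At : Over (Spec (CommRingCat.of k))} [GrpObj A] [IsProper A.hom] [Smooth A.hom]
  [GeometricallyConnected A.hom] [GrpObj At] [IsProper At.hom] [Smooth At.hom] [GeometricallyConnected At.hom]
  {φ : ∀ T : Over (Spec (CommRingCat.of k)), PicF.Cl (PicF.XT A.hom T) → (T ⟶ At)}
  (hD : AbDual.IsDualAV Scheme.fppfPrecoverage A At φ) {ξ : Pic (PicF.XT A.hom At)}
  (h1 : ξ ∈ pz A.hom At) (h2 : ξ ∈ rg A At) (h3 : cm φ ξ = 𝟙 At)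
  {P : (PicF.XT A.hom At).Modules} (hP : PicF.IsInvertible P) (hξ : ξ = mk P hP) (g : ℕ)
  (hg : topologicalKrullDim A.left = g)

include hD h1 h2 h3 hξ

/-- The exceptional set. -/
theorem exists_finite' : ∃ Z : Set A.left, Z.Finite ∧ (∀ z ∈ Z, IsClosed ({z} : Set A.left)) ∧
    ∀ y p, CohIII.fiberRank (p₁ A At) P p y ≠ 0 → y ∈ Z := by
  have i1 : IsLocallyNoetherian A.left := LocallyOfFiniteType.isLocallyNoetherian A.hom
  have hcoh := Groth.Agent.S2329.isCoh_of_isInvertible hP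
  have hfl := Grpsch.CubeClosed.isFlatOver_of_isInvertible (p₁ A At) hP
  obtain ⟨Z, hZ, hcl, hloc⟩ := exists_finite hD h1 h2 h3 hP hξ
  refine ⟨Z, hZ, hcl, fun y p hy => ?_⟩
  by_contra hyZ
  apply hy
  obtain ⟨W, hW, hyW, hac⟩ := hloc hyZ
  obtain ⟨x⟩ : Nonempty (Spec (A.left.residueField y)) := inferInstance
  have h4 := K512.FibAcyc.fibre_of_acycOver (p₁ A At) P hcoh hfl (A.left.fromSpecResidueField y) _ _
    (IsPullback.of_hasPullback (p₁ A At) (A.left.fromSpecResidueField y)) x W hW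
    (Set.mem_of_eq_of_mem (Scheme.fromSpecResidueField_apply y x) hyW) hac p
  have h5 : Subsingleton (CohIII.fiberH (p₁ A At) P y p) := h4
  exact Module.finrank_zero_of_subsingleton

include hg

/-- **`R^p p₁_* P = 0` for `p ≠ g`.** -/
theorem isZero [HasInjectiveResolutions (PicF.XT A.hom At).Modules] (p : ℕ) (hp : p ≠ g) :
    IsZero ((Coh.Rpush (p₁ A At) p).obj P) := by
  have i1 : IsLocallyNoetherian A.left := LocallyOfFiniteType.isLocallyNoetherian A.hom
  have hcoh := Groth.Agent.S2329.isCoh_of_isInvertible hP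
  have hfl := Grpsch.CubeClosed.isFlatOver_of_isInvertible (p₁ A At) hP
  have hd := dim_eq hD h1 h2 h3 hP hξ g hg
  obtain ⟨Z, hZ, hcl, hr0⟩ := exists_finite' hD h1 h2 h3 hP hξ
  have hr1 : ∀ y p, g < p → CohIII.fiberRank (p₁ A At) P p y = 0 := by
    intro y p hp
    have h4 := van_of_lt hP g hd (IsPullback.of_hasPullback (p₁ A At) (A.left.fromSpecResidueField y)) p hp
    have h5 : Subsingleton (CohIII.fiberH (p₁ A At) P y p) := h4
    exact Module.finrank_zero_of_subsingleton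
  rcases lt_or_gt_of_ne hp with hp | hp
  · refine K524.FinSupp.isZero_Rpush _ P hcoh hfl g (fun y hy => ?_) p hp
    obtain ⟨q, -, hq⟩ := hy
    exact K524.Key.hasReg_stalk A g hg y (hcl y (hr0 y q hq))
  · exact K524.FinSupp.isZero_Rpush_of_fiberRank _ P hcoh hfl p fun y => hr1 y p hp

/-- The unit is in the support of `R^g p₁_* P`. -/
theorem mem_support [HasInjectiveResolutions (PicF.XT A.hom At).Modules] :
    y₀ A ∈ CohB1.support ((Coh.Rpush (p₁ A At) g).obj P) := by
  have i1 : IsLocallyNoetherian A.left := LocallyOfFiniteType.isLocallyNoetherian A.hom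
  have hcoh := Groth.Agent.S2329.isCoh_of_isInvertible hP
  have hM := Groth.Agent.S0036.result (p₁ A At) P hcoh g
  by_contra hc
  have hcl : IsClosed (CohB1.support ((Coh.Rpush (p₁ A At) g).obj P)) :=
    Groth.Agent.S0020.result _ _ hM.2
  obtain ⟨_, ⟨V, hV, rfl⟩, hy, hVs⟩ := A.left.isBasis_affineOpens.exists_subset_of_mem_open
    (show y₀ A ∈ (CohB1.support ((Coh.Rpush (p₁ A At) g).obj P))ᶜ from hc) hcl.isOpen_compl
  refine not_acyc hD h1 h2 h3 hP hξ hV hy ?_
  rw [K512.Acyc.acycOver_iff_HHon]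
  intro p
  by_cases hp : p = g
  · subst hp
    rw [← Groth.Agent.Ega3B.RpushAff.subsingleton_iff (p₁ A At) P hcoh.1 hV p]
    refine subsingleton_of_forall_eq 0 fun t => SkyDim.eq_zero_of_germ _ t fun x hx => ?_
    have hxZ : x ∉ CohB1.support ((Coh.Rpush (p₁ A At) p).obj P) := hVs hx
    have : Subsingleton (((Coh.Rpush (p₁ A At) p).obj P).presheaf.stalk x) := not_not.1 hxZ
    exact Subsingleton.elim _ _
  · exact Ega3B.RpushAff.subsingleton_HHon_of_isZero (p₁ A At) P hcoh.1 hV p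
      (isZero hD h1 h2 h3 hP hξ g hg p hp)

/-- **`R^g p₁_* P` is the skyscraper at the unit.** -/
theorem nonempty_iso [HasInjectiveResolutions (PicF.XT A.hom At).Modules] :
    Nonempty ((Coh.Rpush (p₁ A At) g).obj P ≅
      (Coh.push η[A].left).obj (Coh.structureModule (Spec (CommRingCat.of k)))) := by
  have i1 : IsLocallyNoetherian A.left := LocallyOfFiniteType.isLocallyNoetherian A.hom
  have hcoh := Groth.Agent.S2329.isCoh_of_isInvertible hP
  have hfl := Grpsch.CubeClosed.isFlatOver_of_isInvertible (p₁ A At) hP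
  let _ : (PicF.XT A.hom At).Over (Spec (CommRingCat.of k)) := ⟨pullback.fst A.hom At.hom ≫ A.hom⟩
  let _ : A.left.Over (Spec (CommRingCat.of k)) := ⟨A.hom⟩
  have i2 : IsProper (A.left ↘ (Spec (CommRingCat.of k))) := ‹IsProper A.hom›
  have hf : p₁ A At ≫ (A.left ↘ Spec (CommRingCat.of k)) = (PicF.XT A.hom At) ↘ Spec (CommRingCat.of k) := rfl
  obtain ⟨Z, hZ, hcl, hr0⟩ := exists_finite' hD h1 h2 h3 hP hξ
  obtain ⟨E⟩ := PC2.exists_equiv k (p₁ A At) hf P hcoh hfl Z hZ hcl hr0 g
  have hZclosed : IsClosed Z := by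
    rw [← Set.biUnion_of_singleton Z]
    exact hZ.isClosed_biUnion hcl
  refine SkyDim.nonempty_iso k η[A].left (Over.w η[A]) _ (Groth.Agent.S0036.result (p₁ A At) P hcoh g) Z hZ hcl
    (K524.FinSupp.support_subset (p₁ A At) P hcoh hfl g Z hZclosed fun y hy => hr0 y g hy)
    (mem_support hD h1 h2 h3 hP hξ g hg) ?_
  exact E.finrank_eq.symm.trans (PC2.finrank_eq_one hD h1 h2 h3 hP hξ g hg)

end K511.PC1
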