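import Groth.Agent.AbVar.K511.SkyAlg
import Groth.Agent.Ega3A.BcFlat
import Groth.Agent.Ega3A.BcBasic
import Groth.Agent.Ega3B.TFunBC
import Groth.Agent.Ega3B.FibreIso

/-!
# Skyscraper homology: from the local ring to an affine base

`C` Noetherian, `P` a bounded complex of finite flat modules in degrees `≤ 0` with acyclic fibres outside a maximal
ideal `𝔭` at which `C` is regular of dimension `g`.
-/

set_option autoImplicit false
universe u
open CategoryTheory CategoryTheory.Limits RingTheory.Sequence Opposite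
open scoped TensorProduct

namespace K511.SkyLoc

open Groth.Agent Groth.Agent.Ega3A.TFunBasic K511.KosLES K511.KosLocal K511.SkyAlg

section Tower

variable {C R B : Type u} [CommRing C] [CommRing R] [CommRing B] [Algebra C R] [Algebra R B] [Algebra C B]
  [IsScalarTower C R B] (P : ChainComplex (ModuleCat.{u} C) ℤ) (i : ℤ)

/-- `B` over `A` is the restriction of `B`. -/
noncomputable def resIso (A B : Type u) [CommRing A] [CommRing B] [Algebra A B] :
    Ega3B.TFunBC.resB (algebraMap A B) ≅ ModuleCat.of A B :=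
  (Ega3A.BcHomology.restrictEquiv A B).toModuleIso

theorem resIso_mulB (A B : Type u) [CommRing A] [CommRing B] [Algebra A B] (b : B) :
    Ega3B.TFunBC.mulB (algebraMap A B) b ≫ (resIso A B).hom = (resIso A B).hom ≫ Ega3B.FibreIso.mulB A b := by
  ext x
  rfl

/-- Action of `B` on `T_i(B)`. -/
noncomputable def act {A : Type u} [CommRing A] (P : ChainComplex (ModuleCat.{u} A) ℤ) (i : ℤ) {B : Type u}
    [CommRing B] [Algebra A B] (b : B) :
    (CohIII.TFun P i).obj (ModuleCat.of A B) ⟶ (CohIII.TFun P i).obj (ModuleCat.of A B) :=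
  (CohIII.TFun P i).map (Ega3B.FibreIso.mulB A b)

/-- `T_i(B)` is the homology of the base changed complex, compatibly with the action of `B`. -/
theorem exists_equiv {A : Type u} [CommRing A] (P : ChainComplex (ModuleCat.{u} A) ℤ) (i : ℤ) {B : Type u}
    [CommRing B] [Algebra A B] :
    ∃ e : (CohIII.bcCx (algebraMap A B) P).homology i ≃+ (CohIII.TFun P i).obj (ModuleCat.of A B),
      ∀ (b : B) (x : (CohIII.bcCx (algebraMap A B) P).homology i), e (b • x) = (act P i b).hom (e x) := by
  let e1 := (Ega3B.TFunBC.homologyIso (algebraMap A B) P i).toLinearEquiv.toAddEquiv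
  let e2 := ((CohIII.TFun P i).mapIso (resIso A B)).toLinearEquiv.toAddEquiv
  refine ⟨e1.trans e2, fun b x => ?_⟩
  have h1 := congr($(Ega3B.TFunBC.homologyIso_smul (algebraMap A B) P i b).hom x)
  have h2 := congrArg (fun φ => ((CohIII.TFun P i).map φ).hom (e1 x)) (resIso_mulB A B b)
  simp only [Functor.map_comp] at h2
  change e2 (e1 (b • x)) = _
  refine (congrArg e2 h1).trans ?_
  exact h2

/-- Comparison of the actions for a tower. -/
theorem exists_equiv_tower :
    ∃ e : (CohIII.TFun (CohIII.bcCx (algebraMap C R) P) i).obj (ModuleCat.of R B) ≃+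
        (CohIII.TFun P i).obj (ModuleCat.of C B),
      ∀ (b : B) (x : (CohIII.TFun (CohIII.bcCx (algebraMap C R) P) i).obj (ModuleCat.of R B)),
        e ((act (CohIII.bcCx (algebraMap C R) P) i b).hom x) = (act P i b).hom (e x) := by
  have key : ∀ θ : C →+* B, θ = (algebraMap R B).comp (algebraMap C R) →
      Nonempty ((CohIII.bcCx (algebraMap R B) (CohIII.bcCx (algebraMap C R) P)).homology i ≃ₗ[B]
        (CohIII.bcCx θ P).homology i) := by
    intro θ hθ
    subst hθ
    exact ⟨(HomologicalComplex.homologyMapIso (Ega3A.BcFlat.bcCompIso (algebraMap C R) (algebraMap R B) P)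
      i).symm.toLinearEquiv⟩
  obtain ⟨e1⟩ := key (algebraMap C B) (IsScalarTower.algebraMap_eq C R B)
  obtain ⟨e2, he2⟩ := exists_equiv (CohIII.bcCx (algebraMap C R) P) i (B := B)
  obtain ⟨e3, he3⟩ := exists_equiv P i (B := B)
  refine ⟨(e2.symm.trans e1.toAddEquiv).trans e3, fun b x => ?_⟩
  obtain ⟨y, rfl⟩ := e2.surjective x
  rw [← he2]
  change e3 (e1 (e2.symm (e2 (b • y)))) = (act P i b).hom (e3 (e1 (e2.symm (e2 y))))
  rw [AddEquiv.symm_apply_apply, AddEquiv.symm_apply_apply, map_smul, he3]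

end Tower

section Supp

variable {C : Type u} [CommRing C] [IsNoetherianRing C] (p : Ideal C) [p.IsMaximal] (R : Type u) [CommRing R]
  [Algebra C R] [IsLocalization.AtPrime R p]

omit [IsNoetherianRing C] in
/-- A module killed by a power of `p` is its own localization. -/
theorem bijective_mk (H : Type u) [AddCommGroup H] [Module C H] (n : ℕ)
    (hn : ∀ a ∈ p ^ n, ∀ h : H, a • h = 0) :
    Function.Bijective (fun h : H => (1 : R) ⊗ₜ[C] h) := by
  have hs : ∀ s : p.primeCompl, ∃ a : C, ∀ h : H, (a * s.1) • h = h := by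
    intro s
    have h1 : IsCoprime (Ideal.span {s.1}) (p ^ n) := by
      refine IsCoprime.pow_right ?_
      rw [Ideal.isCoprime_iff_sup_eq]
      refine (Ideal.IsMaximal.out (I := p) : IsCoatom p).2 _ (lt_of_le_of_ne le_sup_right ?_)
      intro h2
      have h3 : s.1 ∈ p := h2.ge (Ideal.mem_sup_left (Ideal.mem_span_singleton_self _))
      exact s.2 h3
    rw [Ideal.isCoprime_iff_exists] at h1
    obtain ⟨x, hx, y, hy, hxy⟩ := h1
    obtain ⟨a, rfl⟩ := Ideal.mem_span_singleton'.1 hx
    refine ⟨a, fun h => ?_⟩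
    have h2 := congrArg (· • h) hxy
    simp only [add_smul, one_smul, hn y hy, add_zero] at h2
    exact h2
  have hloc : IsLocalizedModule p.primeCompl (TensorProduct.mk C R H 1) :=
    (isLocalizedModule_iff_isBaseChange p.primeCompl R _).2 (TensorProduct.isBaseChange C H R)
  constructor
  · have : Function.Injective (TensorProduct.mk C R H 1) := by
      rw [injective_iff_map_eq_zero]
      intro h hh
      obtain ⟨s, hs'⟩ := (IsLocalizedModule.eq_zero_iff p.primeCompl _).1 hh
      obtain ⟨a, ha⟩ := hs s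
      rw [← ha h, mul_smul]
      have h3 : s.1 • h = 0 := hs'
      rw [h3, smul_zero]
    exact this
  · intro t
    obtain ⟨⟨h, s⟩, hh⟩ := IsLocalizedModule.surj p.primeCompl (TensorProduct.mk C R H 1) t
    obtain ⟨a, ha⟩ := hs s
    refine ⟨a • h, ?_⟩
    change (TensorProduct.mk C R H 1) (a • h) = t
    have h4 : s.1 • t = (TensorProduct.mk C R H 1) h := hh
    apply IsLocalizedModule.smul_injective (TensorProduct.mk C R H 1) s
    change s.1 • _ = s.1 • t
    rw [h4, ← map_smul, smul_smul, mul_comm, ha]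

/-- Modules supported at one maximal ideal. -/
theorem bijective_of_support (H : Type u) [AddCommGroup H] [Module C H] [Module.Finite C H]
    (h : ∀ x : PrimeSpectrum C, x.asIdeal ≠ p → x ∉ Module.support C H) :
    Function.Bijective (fun h : H => (1 : R) ⊗ₜ[C] h) := by
  have h1 : ∃ n : ℕ, p ^ n ≤ Module.annihilator C H := by
    refine Ideal.exists_pow_le_of_le_radical_of_fg ?_ (IsNoetherian.noetherian _)
    rw [← PrimeSpectrum.zeroLocus_subset_zeroLocus_iff, ← Module.support_eq_zeroLocus]
    intro x hx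
    by_cases h1 : x.asIdeal = p
    · rw [PrimeSpectrum.mem_zeroLocus, h1]
    · exact absurd hx (h x h1)
  obtain ⟨n, hn⟩ := h1
  exact bijective_mk p R H n fun a ha h => Module.mem_annihilator.1 (hn ha) h

end Supp

section Main

open IsLocalRing

variable {C : Type u} [CommRing C] [IsNoetherianRing C]

omit [IsNoetherianRing C] in
theorem isZero_bcCx_X {R : Type u} [CommRing R] (φ : C →+* R) (P : ChainComplex (ModuleCat.{u} C) ℤ) (i : ℤ)
    (h : IsZero (P.X i)) : IsZero ((CohIII.bcCx φ P).X i) :=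
  (ModuleCat.extendScalars φ).map_isZero h

omit [IsNoetherianRing C] in
/-- The quotient by a maximal ideal and the residue field of the localization. -/
theorem nonempty_quot_equiv (p : Ideal C) [p.IsMaximal] (R : Type u) [CommRing R] [IsLocalRing R]
    [Algebra C R] [IsLocalization.AtPrime R p] : Nonempty ((C ⧸ p) ≃ₗ[C] (R ⧸ maximalIdeal R)) := by
  refine ⟨{ (IsLocalization.AtPrime.equivQuotMaximalIdeal p R).toAddEquiv with map_smul' := fun c x => ?_ }⟩
  change (IsLocalization.AtPrime.equivQuotMaximalIdeal p R) (c • x) =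
    c • (IsLocalization.AtPrime.equivQuotMaximalIdeal p R) x
  rw [Algebra.smul_def, Algebra.smul_def, map_mul]
  rfl

theorem notMem_support (P : ChainComplex (ModuleCat.{u} C) ℤ)
    (hP : ∀ i, Module.Finite C (P.X i) ∧ Module.Flat C (P.X i)) (i : ℤ) (x : PrimeSpectrum C)
    (h : CohIII.dRank P i x = 0) : x ∉ Module.support C (P.homology i) := by
  rw [Module.notMem_support_iff]
  exact Ega3B.VanishFibre.subsingleton_localized_homology P i (i - 1) (by simp) (hP i).1 (hP _).1 (hP _).2 x h

/-- The main local statement. -/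
theorem main (P : ChainComplex (ModuleCat.{u} C) ℤ)
    (hP : ∀ i, Module.Finite C (P.X i) ∧ Module.Flat C (P.X i))
    (hb : ∃ b : ℤ, ∀ i, (i < b ∨ 0 < i) → IsZero (P.X i))
    (x₀ : PrimeSpectrum C) [x₀.asIdeal.IsMaximal] (R : Type u) [CommRing R] [IsRegularLocalRing R] [Algebra C R]
    [IsLocalization.AtPrime R x₀.asIdeal]
    (g : ℕ) (hd : ringKrullDim R = g)
    (h1 : ∀ x, x ≠ x₀ → ∀ i, CohIII.dRank P i x = 0) (hlow : ∀ i : ℤ, i < -(g : ℤ) → CohIII.dRank P i x₀ = 0)
    (h0 : CohIII.dRank P 0 x₀ = 1)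
    (hgeo : ∀ (I : Ideal R) (n : ℕ), I ≠ ⊤ → maximalIdeal R ^ n ≤ I →
      ∀ (z : R ⧸ I) (s : (CohIII.TFun P 0).obj (ModuleCat.of C (R ⧸ I))),
        (∀ a ∈ maximalIdeal R, z * Ideal.Quotient.mk I a = 0) → (act P 0 z).hom s ≠ 0 → maximalIdeal R ≤ I) :
    (∀ i : ℤ, i ≠ -(g : ℤ) → Subsingleton (P.homology i)) ∧
      Nonempty (P.homology (-(g : ℤ)) ≃ₗ[C] C ⧸ x₀.asIdeal) := by
  obtain ⟨b, hb⟩ := hb
  have hflat : Module.Flat C R := IsLocalization.flat R x₀.asIdeal.primeCompl
  let PR := CohIII.bcCx (algebraMap C R) P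
  have hPR : ∀ i, Module.Finite R (PR.X i) ∧ Module.Flat R (PR.X i) := by
    intro i
    have := (hP i).1
    have := (hP i).2
    exact ⟨Ega3A.BcBasic.finite_X_bc R P i, Ega3A.BcBasic.flat_X_bc R P i⟩
  have hz0 : ∀ i, 0 < i → IsZero (PR.X i) := fun i hi => isZero_bcCx_X _ P i (hb i (Or.inr hi))
  have hzb : ∀ i, i < b → IsZero (PR.X i) := fun i hi => isZero_bcCx_X _ P i (hb i (Or.inl hi))
  have hx0 : PrimeSpectrum.comap (algebraMap C R) (closedPoint R) = x₀ := by
    ext1
    exact IsLocalization.AtPrime.under_maximalIdeal R x₀.asIdeal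
  have hne : ∀ x' : PrimeSpectrum R, x' ≠ closedPoint R → PrimeSpectrum.comap (algebraMap C R) x' ≠ x₀ := by
    intro x' hx' h
    apply hx'
    apply PrimeSpectrum.localization_comap_injective R x₀.asIdeal.primeCompl
    rw [h, hx0]
  have hac : ∀ x' : PrimeSpectrum R, x' ≠ closedPoint R → ∀ i, CohIII.dRank PR i x' = 0 := by
    intro x' hx' i
    rw [Ega3A.BcFlat.dRank_bcCx P i x']
    exact h1 _ (hne x' hx') i
  have hdep : (g : ℕ∞) ≤ LocCoh.depth R R := by
    have h1 : ringKrullDim R = ((LocCoh.depth R R : ℕ∞) : WithBot ℕ∞) := by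
      have h := Groth.Agent.Ega4A.RegCM.isCohenMacaulayLocalRing_of_isRegularLocalRing R
      rw [← Module.supportDim_self_eq_ringKrullDim]
      exact h.supportDim_eq_depth
    rw [hd] at h1
    exact_mod_cast h1.le
  obtain ⟨n, hn⟩ := exists_pow_smul PR hPR b hzb 0 hz0 hac
  have hz := isZero_of_lt PR hPR hz0 hdep n hn
  have hsupp : ∀ i, ∀ x : PrimeSpectrum C, x.asIdeal ≠ x₀.asIdeal → x ∉ Module.support C (P.homology i) := by
    intro i x hx
    exact notMem_support P hP i x (h1 x (fun h => hx (by rw [h])) i)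
  have hfin : ∀ i, Module.Finite C (P.homology i) := by
    intro i
    have := (hP i).1
    exact Ega3B.FibreRank.finite_homology P i
  have hbij := fun i => bijective_of_support x₀.asIdeal R (P.homology i) (hsupp i)
  refine ⟨fun i hi => ?_, ?_⟩
  · rcases lt_or_gt_of_ne hi with h2 | h2
    · rw [← Module.support_eq_empty_iff (R := C)]
      rw [Set.eq_empty_iff_forall_notMem]
      intro x
      by_cases hx : x = x₀
      · rw [hx]
        exact notMem_support P hP i x₀ (hlow i h2)
      · exact notMem_support P hP i x (h1 x hx i)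
    · have h3 : Subsingleton (R ⊗[C] (P.homology i)) := by
        have h4 := hz i h2
        have h5 : Subsingleton (PR.homology i) :=
          ModuleCat.subsingleton_of_isZero (h4.of_iso (Ega3A.BcHomology.TUnitIso PR i).symm)
        exact (Ega3A.BcFlat.bcHomologyEquiv P i).symm.toEquiv.subsingleton
      exact (hbij i).1.subsingleton
  · obtain ⟨I, n', hI, hn', ⟨e⟩⟩ := exists_quot PR hPR hz0 (fun x hx => hac x hx 0) (by
      rw [Ega3A.BcFlat.dRank_bcCx P 0, hx0]
      exact h0)
    obtain ⟨z, hz1, hz2⟩ := exists_socle I hI n' hn'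
    obtain ⟨et, het⟩ := exists_equiv_tower (C := C) (R := R) (B := R ⧸ I) P 0
    let s := evEquiv PR 0 e (ModuleCat.of R (R ⧸ I)) LinearMap.id
    have hs : (act PR 0 (Ideal.Quotient.mk I z)).hom s ≠ 0 := by
      intro h
      have h3 := (evEquiv_map PR 0 e (Ega3B.FibreIso.mulB R (Ideal.Quotient.mk I z)) LinearMap.id).symm.trans h
      have h4 := (evEquiv PR 0 e (ModuleCat.of R (R ⧸ I))).injective (h3.trans (map_zero _).symm)
      have h5 := LinearMap.congr_fun h4 (1 : R ⧸ I)
      have h6 : Ideal.Quotient.mk I z * 1 = 0 := h5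
      rw [mul_one, Ideal.Quotient.eq_zero_iff_mem] at h6
      exact hz1 h6
    have hm := hgeo I n' hI hn' (Ideal.Quotient.mk I z) (et s) (fun a ha => by
      rw [← map_mul, Ideal.Quotient.eq_zero_iff_mem]
      exact hz2 a ha) (by
      rw [← het]
      intro h
      exact hs (et.injective (h.trans (map_zero et).symm)))
    have hIm : I = maximalIdeal R := le_antisymm (le_maximalIdeal hI) hm
    subst hIm
    obtain ⟨e2⟩ := top_iso PR hPR hz0 hd n hn e
    obtain ⟨e3⟩ := nonempty_quot_equiv x₀.asIdeal R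
    let e1 : P.homology (-(g : ℤ)) ≃ₗ[C] R ⊗[C] (P.homology (-(g : ℤ))) :=
      LinearEquiv.ofBijective (TensorProduct.mk C R (P.homology (-(g : ℤ))) 1) (hbij _)
    let e4 : R ⊗[C] (P.homology (-(g : ℤ))) ≃ₗ[R] (R ⧸ maximalIdeal R) :=
      (Ega3A.BcFlat.bcHomologyEquiv P (-(g : ℤ))).symm.trans
        (((Ega3A.BcHomology.TUnitIso PR (-(g : ℤ))).symm ≪≫ e2).toLinearEquiv)
    exact ⟨(e1.trans (e4.restrictScalars C)).trans e3.symm⟩

end Main

end K511.SkyLoc
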