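import Groth.Agent.AbVar.K511.PackB
import Groth.Agent.AbVar.K511.SkyLoc
import Groth.Agent.Grpsch.CubeClosed
import Groth.Agent.S2329

/-!
# Higher direct images supported at one regular point

`f : X ⟶ Y` proper flat, `F` invertible on `X`, the fibres of `F` over the points different from `y₀` are acyclic, `Y`
regular of dimension `g` at `y₀`.
-/

set_option autoImplicit false
universe u

open CategoryTheory CategoryTheory.Limits AlgebraicGeometry Opposite TopologicalSpace IsLocalRing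

namespace K511.LocPush

open Groth.Agent K511.PackB K511.SkyLoc

section Rank

variable {X Y : Scheme.{u}} (F : X.Modules) {V : Y.Opens} (P : ChainComplex (ModuleCat.{u} Γ(Y, V)) ℤ)

/-- The comparison with the homology of the base changed complex. -/
theorem exists_equiv_bc {B : Type u} [CommRing B] [Algebra Γ(Y, V) B] {X' : Scheme.{u}} {j : X' ⟶ X}
    {q : X' ⟶ Spec (CommRingCat.of B)} {p : ℕ} (h : CmpB F P B j q p) :
    ∃ e : Coh.HH X' ((Scheme.Modules.pullback j).obj F) p ≃+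
        (CohIII.bcCx (algebraMap Γ(Y, V) B) P).homology (-(p : ℤ)),
      ∀ (b : B) x, e (Coh.toGlobal q b • x) = b • e x := by
  obtain ⟨e1, he1⟩ := h
  obtain ⟨e2, he2⟩ := exists_equiv P (-(p : ℤ)) (B := B)
  refine ⟨e1.trans e2.symm, fun b x => ?_⟩
  apply e2.injective
  rw [he2, AddEquiv.trans_apply, AddEquiv.trans_apply, AddEquiv.apply_symm_apply, AddEquiv.apply_symm_apply, he1]
  rfl

/-- The rank function at a field-valued point. -/
theorem finrank_eq {K : Type u} [Field K] [Algebra Γ(Y, V) K] (x : PrimeSpectrum Γ(Y, V))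
    (hx : x.asIdeal = RingHom.ker (algebraMap Γ(Y, V) K)) {X' : Scheme.{u}} {j : X' ⟶ X}
    {q : X' ⟶ Spec (CommRingCat.of K)} {p : ℕ} (h : CmpB F P K j q p) :
    @Module.finrank K (Coh.HH X' ((Scheme.Modules.pullback j).obj F) p) _ _
      (@Coh.moduleOver K _ X' ⟨q⟩ _ p) = CohIII.dRank P (-(p : ℤ)) x := by
  obtain ⟨e, he⟩ := exists_equiv_bc F P h
  let _ : X'.Over (Spec (CommRingCat.of K)) := ⟨q⟩
  let e' : Coh.HH X' ((Scheme.Modules.pullback j).obj F) p ≃ₗ[K]
      (CohIII.bcCx (algebraMap Γ(Y, V) K) P).homology (-(p : ℤ)) := { e with map_smul' := he }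
  rw [e'.finrank_eq]
  exact Ega3A.BcFlat.finrank_homology_eq_dRank K x hx P (-(p : ℤ))

theorem dRank_eq_zero {K : Type u} [Field K] [Algebra Γ(Y, V) K] (x : PrimeSpectrum Γ(Y, V))
    (hx : x.asIdeal = RingHom.ker (algebraMap Γ(Y, V) K)) {X' : Scheme.{u}} {j : X' ⟶ X}
    {q : X' ⟶ Spec (CommRingCat.of K)} {p : ℕ} (h : CmpB F P K j q p)
    (hs : Subsingleton (Coh.HH X' ((Scheme.Modules.pullback j).obj F) p)) : CohIII.dRank P (-(p : ℤ)) x = 0 := by
  rw [← finrank_eq F P x hx h]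
  exact @Module.finrank_zero_of_subsingleton K _ _ _ (_) _ hs

theorem dRank_eq_zero_of_isZero {A : Type u} [CommRing A] (P : ChainComplex (ModuleCat.{u} A) ℤ) (i : ℤ)
    (h : IsZero (P.X i)) (x : PrimeSpectrum A) : CohIII.dRank P i x = 0 := by
  have h1 : IsZero ((CohIII.bcCx (algebraMap A x.asIdeal.ResidueField) P).X i) := isZero_bcCx_X _ P i h
  have h4 : IsZero ((CohIII.bcCx (algebraMap A x.asIdeal.ResidueField) P).homology i) := by
    rw [← HomologicalComplex.exactAt_iff_isZero_homology]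
    exact ShortComplex.exact_of_isZero_X₂ _ h1
  have h5 := ModuleCat.subsingleton_of_isZero h4
  exact Module.finrank_zero_of_subsingleton

end Rank

section Points

variable {Y : Scheme.{u}} {V : Y.Opens} (hV : IsAffineOpen V)

/-- The residue point. -/
theorem spec_residue_closedPoint {C : Type u} [CommRing C] (x : PrimeSpectrum C) :
    (Spec.map (CommRingCat.ofHom (algebraMap C x.asIdeal.ResidueField)) :
      Spec (CommRingCat.of x.asIdeal.ResidueField) ⟶ Spec (CommRingCat.of C))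
      (closedPoint x.asIdeal.ResidueField) = x := by
  apply PrimeSpectrum.ext
  change Ideal.comap (algebraMap C x.asIdeal.ResidueField) (maximalIdeal x.asIdeal.ResidueField) = x.asIdeal
  rw [IsLocalRing.maximalIdeal_eq_bot]
  exact Ideal.ker_algebraMap_residueField x.asIdeal

include hV in
theorem isMaximal_of_isClosed (y : V) (hy : IsClosed ({y.1} : Set Y)) :
    (hV.primeIdealOf y).asIdeal.IsMaximal := by
  rw [← PrimeSpectrum.isClosed_singleton_iff_isMaximal]
  have h1 : ({hV.primeIdealOf y} : Set (PrimeSpectrum Γ(Y, V))) = hV.fromSpec ⁻¹' {y.1} := by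
    ext x
    change x = _ ↔ hV.fromSpec x = y.1
    constructor
    · rintro rfl
      exact hV.fromSpec_primeIdealOf y
    · intro h
      apply hV.fromSpec.isOpenEmbedding.injective
      rw [h]
      exact (hV.fromSpec_primeIdealOf y).symm
  rw [h1]
  exact hy.preimage hV.fromSpec.continuous

include hV in
/-- The canonical morphism from the local ring through an affine open. -/
theorem fromSpecStalk_eq (y : V) : Spec.map (Y.presheaf.germ V y.1 y.2) ≫ hV.fromSpec = Y.fromSpecStalk y.1 :=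
  hV.fromSpecStalk_eq_fromSpecStalk y.2

end Points

section Main

variable {X Y : Scheme.{u}} (f : X ⟶ Y) [IsProper f] [Flat f] [IsLocallyNoetherian Y]
  [HasInjectiveResolutions X.Modules] {F : X.Modules} (hF : PicF.IsInvertible F) (y₀ : Y)

/-- Acyclicity of the fibres over the points with values in a field different from `y₀`. -/
def FibAway (f : X ⟶ Y) (F : X.Modules) (y₀ : Y) : Prop :=
  ∀ (K : Type u) [Field K] (t : Spec (CommRingCat.of K) ⟶ Y), t (closedPoint K) ≠ y₀ →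
    ∃ (X' : Scheme.{u}) (j : X' ⟶ X) (q : X' ⟶ Spec (CommRingCat.of K)), IsPullback j q f t ∧
      ∀ p, Subsingleton (Coh.HH X' ((Scheme.Modules.pullback j).obj F) p)

include hF in
theorem subsingleton_of_notMem (h1 : FibAway f F y₀) (V : Y.Opens) (hV : IsAffineOpen V) (hy : y₀ ∉ V) (p : ℕ) :
    Subsingleton Γ((Coh.Rpush f p).obj F, V) := by
  have hcoh := Groth.Agent.S2329.isCoh_of_isInvertible hF
  have hfl := Grpsch.CubeClosed.isFlatOver_of_isInvertible f hF
  have hN : IsNoetherianRing Γ(Y, V) := IsLocallyNoetherian.component_noetherian ⟨V, hV⟩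
  obtain ⟨P, hP, hb, hΓ, -, hcmp⟩ := package f F hcoh hfl V hV
  obtain ⟨e⟩ := hΓ p
  have h2 : Subsingleton (P.homology (-(p : ℤ))) := by
    rw [← Module.support_eq_empty_iff (R := Γ(Y, V)), Set.eq_empty_iff_forall_notMem]
    intro x
    refine notMem_support P hP _ x ?_
    obtain ⟨X', j, q, H, hs⟩ := h1 x.asIdeal.ResidueField
      (Spec.map (CommRingCat.ofHom (algebraMap Γ(Y, V) x.asIdeal.ResidueField)) ≫ hV.fromSpec) (by
        rw [Scheme.Hom.comp_apply, spec_residue_closedPoint]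
        rintro rfl
        apply hy
        have h3 : hV.fromSpec x ∈ Set.range hV.fromSpec := ⟨x, rfl⟩
        rw [hV.range_fromSpec] at h3
        exact h3)
    exact dRank_eq_zero F P x (Ideal.ker_algebraMap_residueField x.asIdeal).symm (hcmp _ X' j q H p) (hs p)
  exact e.toEquiv.subsingleton

include hF in
/-- The higher direct images over an affine neighbourhood of the exceptional point. -/
theorem main (h1 : FibAway f F y₀) (hcl : IsClosed ({y₀} : Set Y)) [IsRegularLocalRing (Y.presheaf.stalk y₀)]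
    (g : ℕ) (hd : ringKrullDim (Y.presheaf.stalk y₀) = g)
    (h2 : ∃ (K : Type u) (_ : Field K) (t : Spec (CommRingCat.of K) ⟶ Y) (X' : Scheme.{u}) (j : X' ⟶ X)
      (q : X' ⟶ Spec (CommRingCat.of K)), t (closedPoint K) = y₀ ∧ IsPullback j q f t ∧
      @Module.finrank K (Coh.HH X' ((Scheme.Modules.pullback j).obj F) 0) _ _
        (@Coh.moduleOver K _ X' ⟨q⟩ _ 0) = 1 ∧
      ∀ p, g < p → Subsingleton (Coh.HH X' ((Scheme.Modules.pullback j).obj F) p))
    (h3 : ∀ (B : Type u) [CommRing B] [IsLocalRing B] (θ : Y.presheaf.stalk y₀ →+* B) (n : ℕ),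
      Function.Surjective θ → maximalIdeal B ^ n = ⊥ → ∀ (X' : Scheme.{u}) (j : X' ⟶ X)
        (q : X' ⟶ Spec (CommRingCat.of B)),
        IsPullback j q f (Spec.map (CommRingCat.ofHom θ) ≫ Y.fromSpecStalk y₀) →
        ∀ (z : B) (s : Coh.HH X' ((Scheme.Modules.pullback j).obj F) 0), (∀ a ∈ maximalIdeal B, z * a = 0) →
          Coh.toGlobal q z • s ≠ 0 → ∀ a ∈ maximalIdeal (Y.presheaf.stalk y₀), θ a = 0)
    (V : Y.Opens) (hV : IsAffineOpen V) (hy : y₀ ∈ V) :
    (∀ p : ℕ, p ≠ g → Subsingleton Γ((Coh.Rpush f p).obj F, V)) ∧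
      Nonempty (Γ((Coh.Rpush f g).obj F, V) ≃ₗ[Γ(Y, V)] (Γ(Y, V) ⧸ (hV.primeIdealOf ⟨y₀, hy⟩).asIdeal)) := by
  have hcoh := Groth.Agent.S2329.isCoh_of_isInvertible hF
  have hfl := Grpsch.CubeClosed.isFlatOver_of_isInvertible f hF
  have hN : IsNoetherianRing Γ(Y, V) := IsLocallyNoetherian.component_noetherian ⟨V, hV⟩
  obtain ⟨P, hP, hb, hΓ, -, hcmp⟩ := package f F hcoh hfl V hV
  let x₀ := hV.primeIdealOf ⟨y₀, hy⟩
  have hmax : x₀.asIdeal.IsMaximal := isMaximal_of_isClosed hV ⟨y₀, hy⟩ hcl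
  let iA : Algebra Γ(Y, V) (Y.presheaf.stalk y₀) := (Y.presheaf.germ V y₀ hy).hom.toAlgebra
  have hloc : IsLocalization.AtPrime (Y.presheaf.stalk y₀) x₀.asIdeal := hV.isLocalization_stalk ⟨y₀, hy⟩
  have hx₀ : hV.fromSpec x₀ = y₀ := hV.fromSpec_primeIdealOf ⟨y₀, hy⟩
  have hpos : ∀ i : ℤ, 0 < i → ∀ x, CohIII.dRank P i x = 0 := by
    intro i hi x
    obtain ⟨b, hb⟩ := hb
    exact dRank_eq_zero_of_isZero P i (hb i (Or.inr hi)) x
  have hne : ∀ x, x ≠ x₀ → ∀ i, CohIII.dRank P i x = 0 := by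
    intro x hx i
    rcases lt_or_ge 0 i with hi | hi
    · exact hpos i hi x
    obtain ⟨p, rfl⟩ : ∃ p : ℕ, i = -(p : ℤ) := ⟨i.natAbs, by omega⟩
    obtain ⟨X', j, q, H, hs⟩ := h1 x.asIdeal.ResidueField
      (Spec.map (CommRingCat.ofHom (algebraMap Γ(Y, V) x.asIdeal.ResidueField)) ≫ hV.fromSpec) (by
        rw [Scheme.Hom.comp_apply, spec_residue_closedPoint]
        intro h
        apply hx
        apply hV.fromSpec.isOpenEmbedding.injective
        rw [h, hx₀])
    exact dRank_eq_zero F P x (Ideal.ker_algebraMap_residueField x.asIdeal).symm (hcmp _ X' j q H p) (hs p)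
  -- the exceptional fibre
  obtain ⟨K, iK, t, X', j, q, ht, H, hf0, hfp⟩ := h2
  obtain ⟨t', ht'⟩ : ∃ t' : Spec (CommRingCat.of K) ⟶ Spec Γ(Y, V), t' ≫ hV.fromSpec = t := by
    refine ⟨IsOpenImmersion.lift hV.fromSpec t ?_, IsOpenImmersion.lift_fac _ _ _⟩
    rw [hV.range_fromSpec]
    rintro _ ⟨w, rfl⟩
    have h5 : w = closedPoint K := Subsingleton.elim (α := PrimeSpectrum K) _ _
    rw [h5, ht]
    exact hy
  obtain ⟨τ, rfl⟩ := Spec.map_surjective t'
  let iK' : Algebra Γ(Y, V) K := τ.hom.toAlgebra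
  have hker : x₀.asIdeal = RingHom.ker (algebraMap Γ(Y, V) K) := by
    have h5 : (Spec.map τ) (closedPoint K) = x₀ := by
      apply hV.fromSpec.isOpenEmbedding.injective
      rw [hx₀, ← Scheme.Hom.comp_apply, ht']
      exact ht
    have h6 := congrArg PrimeSpectrum.asIdeal h5
    rw [← h6]
    change Ideal.comap τ.hom (maximalIdeal K) = RingHom.ker τ.hom
    rw [IsLocalRing.maximalIdeal_eq_bot]
    rfl
  have H' : IsPullback j q f (Spec.map (CommRingCat.ofHom (algebraMap Γ(Y, V) K)) ≫ hV.fromSpec) := by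
    have h5 : Spec.map (CommRingCat.ofHom (algebraMap Γ(Y, V) K)) ≫ hV.fromSpec = t := ht'
    rw [h5]
    exact H
  have hlow : ∀ i : ℤ, i < -(g : ℤ) → CohIII.dRank P i x₀ = 0 := by
    intro i hi
    obtain ⟨p, rfl⟩ : ∃ p : ℕ, i = -(p : ℤ) := ⟨i.natAbs, by omega⟩
    exact dRank_eq_zero F P x₀ hker (hcmp K X' j q H' p) (hfp p (by omega))
  have h0 : CohIII.dRank P 0 x₀ = 1 := by
    have := finrank_eq F P x₀ hker (hcmp K X' j q H' 0)
    rw [hf0] at this
    exact this.symm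
  obtain ⟨m1, ⟨m2⟩⟩ := SkyLoc.main P hP hb x₀ (Y.presheaf.stalk y₀) g hd hne hlow h0 (by
    intro I n hI hn z s hz hs a ha
    have : Nontrivial (Y.presheaf.stalk y₀ ⧸ I) := Ideal.Quotient.nontrivial_iff.2 hI
    have hBloc : IsLocalRing (Y.presheaf.stalk y₀ ⧸ I) :=
      IsLocalRing.of_surjective' (Ideal.Quotient.mk I) Ideal.Quotient.mk_surjective
    rw [← Ideal.Quotient.eq_zero_iff_mem]
    have hmapm : (maximalIdeal (Y.presheaf.stalk y₀ ⧸ I)) =
        (maximalIdeal (Y.presheaf.stalk y₀)).map (Ideal.Quotient.mk I) := by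
      exact (IsLocalRing.map_maximalIdeal_of_surjective _ Ideal.Quotient.mk_surjective).symm
    have hsp : Spec.map (CommRingCat.ofHom (Ideal.Quotient.mk I)) ≫ Y.fromSpecStalk y₀ =
        Spec.map (CommRingCat.ofHom (algebraMap Γ(Y, V) (Y.presheaf.stalk y₀ ⧸ I))) ≫ hV.fromSpec := by
      rw [← fromSpecStalk_eq hV ⟨y₀, hy⟩, ← Category.assoc, ← Spec.map_comp]
      rfl
    obtain ⟨e, he⟩ := hcmp (Y.presheaf.stalk y₀ ⧸ I) _ _ _ (IsPullback.of_hasPullback f
      (Spec.map (CommRingCat.ofHom (algebraMap Γ(Y, V) (Y.presheaf.stalk y₀ ⧸ I))) ≫ hV.fromSpec)) 0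
    obtain ⟨s', rfl⟩ := e.surjective s
    refine h3 (Y.presheaf.stalk y₀ ⧸ I) (Ideal.Quotient.mk I) n Ideal.Quotient.mk_surjective ?_ _ _ _ (by
      rw [hsp]
      exact IsPullback.of_hasPullback f
        (Spec.map (CommRingCat.ofHom (algebraMap Γ(Y, V) (Y.presheaf.stalk y₀ ⧸ I))) ≫ hV.fromSpec)) z s' ?_ ?_ a ha
    · rw [hmapm, ← Ideal.map_pow, eq_bot_iff, Ideal.map_le_iff_le_comap]
      intro b hb
      exact Ideal.Quotient.eq_zero_iff_mem.2 (hn hb)
    · intro b hb
      rw [hmapm] at hb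
      obtain ⟨c, hc, rfl⟩ := (Ideal.mem_map_iff_of_surjective _ Ideal.Quotient.mk_surjective).1 hb
      exact hz c hc
    · intro h5
      apply hs
      have h6 := he z s'
      rw [h5, map_zero] at h6
      exact h6.symm)
  refine ⟨fun p hp => ?_, ?_⟩
  · obtain ⟨e⟩ := hΓ p
    have := m1 (-(p : ℤ)) (by omega)
    exact e.toEquiv.subsingleton
  · obtain ⟨e⟩ := hΓ g
    exact ⟨e.trans m2⟩

end Main

end K511.LocPush
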