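import Groth.Agent.Ega1.AmpFam
import Groth.Agent.Ega2.AmpleUnit
import Groth.Agent.Ega3B.SectExact

/-!
# Deformations of the trivial invertible module over a local Artinian ring, seen on sections

`X` over `Spec B`, `B` local with `Spec B` a point, `F` invertible on `X` with trivial restriction to the closed fibre
`X₀`, and `Γ(X₀, O)` a field. If some `s ∈ Γ(X, F)` is not killed by an element `z` of the socle of `B`, then `F` is
trivial.
-/

set_option autoImplicit false
universe u
open CategoryTheory CategoryTheory.Limits AlgebraicGeometry Opposite TopologicalSpace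

namespace K511.TrivDef

open Groth.Agent Groth.Agent.Fdesc.LocGen Groth.Agent.Ega3B.SectExact

/-- In a pushout of rings along a surjection, the kernel is the extension of the kernel. -/
theorem ker_le_of_isPushout {A B C D : CommRingCat.{u}} {f : A ⟶ B} {g : A ⟶ C} {inl : B ⟶ D}
    {inr : C ⟶ D} (h : IsPushout f g inl inr) (hg : Function.Surjective g.hom) :
    RingHom.ker inl.hom ≤ (RingHom.ker g.hom).map f.hom := by
  let Q := B ⧸ (RingHom.ker g.hom).map f.hom
  let qB : B ⟶ CommRingCat.of Q := CommRingCat.ofHom (Ideal.Quotient.mk _)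
  let c : C →+* Q := (Ideal.quotientMap ((RingHom.ker g.hom).map f.hom) f.hom
    (Ideal.le_comap_map (f := f.hom) (I := RingHom.ker g.hom))).comp
      (RingHom.quotientKerEquivOfSurjective hg).symm.toRingHom
  let qC : C ⟶ CommRingCat.of Q := CommRingCat.ofHom c
  have w : f ≫ qB = g ≫ qC := by
    ext x
    have h1 : (RingHom.quotientKerEquivOfSurjective hg).symm (g.hom x) =
        Ideal.Quotient.mk _ x := by
      rw [RingEquiv.symm_apply_eq]
      rfl
    have h2 : c (g.hom x) = Ideal.Quotient.mk _ (f.hom x) := by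
      simp only [c, RingHom.comp_apply, RingEquiv.toRingHom_eq_coe, RingHom.coe_coe]
      rw [h1, Ideal.quotientMap_mk]
    exact h2.symm
  intro x hx
  have h2 := congrArg (fun φ => φ.hom x) (h.inl_desc qB qC w)
  change (h.desc qB qC w).hom (inl.hom x) = Ideal.Quotient.mk _ x at h2
  rw [RingHom.mem_ker.1 hx, map_zero] at h2
  exact Ideal.Quotient.eq_zero_iff_mem.1 h2.symm

/-- `H^0` and sections, linearly. -/
theorem secEquiv_smul {X : Scheme.{u}} (M : X.Modules) (r : Γ(X, ⊤)) (x : Coh.HH X M 0) :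
    secEquiv M (@HSMul.hSMul (Coh.Γtop X) (Coh.HH X M 0) (Coh.HH X M 0) _ r x) = r • secEquiv M x := by
  refine (Sheaf.H.equiv₀_naturality (topTerm X) (Coh.smulAb M r) x).symm.trans ?_
  change (ores (le_refl ⊤) r) • secEquiv M x = _
  rw [ores_refl]

/-- The global function of an element of the base ring. -/
noncomputable def gl {B : Type u} [CommRing B] {X : Scheme.{u}} (q : X ⟶ Spec (CommRingCat.of B)) (z : B) :
    Γ(X, ⊤) := Coh.toGlobal q z

section Art

variable {B : Type u} [CommRing B] [IsLocalRing B] {X X₀ : Scheme.{u}} (q : X ⟶ Spec (CommRingCat.of B))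
  (i : X₀ ⟶ X) (q₀ : X₀ ⟶ Spec (CommRingCat.of (IsLocalRing.ResidueField B)))
  (H : IsPullback i q₀ q (Spec.map (CommRingCat.ofHom (IsLocalRing.residue B))))

include H in
/-- Functions vanishing on the closed fibre are killed by the socle. -/
theorem mul_eq_zero (z : B) (hz : ∀ a ∈ IsLocalRing.maximalIdeal B, z * a = 0) (U : X.Opens) (hU : IsAffineOpen U)
    (a : Γ(X, U)) (ha : (i.app U).hom a = 0) : ores (le_top : U ≤ ⊤) (gl q z) * a = 0 := by
  have hUST : (⊤ : (Spec (CommRingCat.of (IsLocalRing.ResidueField B))).Opens) ≤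
      (Spec.map (CommRingCat.ofHom (IsLocalRing.residue B))) ⁻¹ᵁ ⊤ := le_top
  have hUSX : U ≤ q ⁻¹ᵁ ⊤ := le_top
  have h1 := isIso_pushoutSection_of_isAffineOpen H hUST hUSX rfl (isAffineOpen_top _)
    (isAffineOpen_top _) hU
  rw [isIso_pushoutSection_iff] at h1
  have e : ∀ {A B : Scheme.{u}} (k : A ⟶ B), k.appLE ⊤ ⊤ le_top = k.appTop := fun k ↦ by
    simp [Scheme.Hom.appLE, Scheme.Hom.appTop]
  rw [e] at h1
  have hn := Scheme.ΓSpecIso_naturality (CommRingCat.ofHom (IsLocalRing.residue B))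
  have hnx : ∀ x, (Scheme.ΓSpecIso (CommRingCat.of (IsLocalRing.ResidueField B))).hom.hom
      ((Spec.map (CommRingCat.ofHom (IsLocalRing.residue B))).appTop.hom x) =
      IsLocalRing.residue B ((Scheme.ΓSpecIso (CommRingCat.of B)).hom.hom x) := fun x =>
    congrArg (fun φ => φ.hom x) hn
  have e1 : ∀ z, (Scheme.ΓSpecIso (CommRingCat.of B)).inv.hom
      ((Scheme.ΓSpecIso (CommRingCat.of B)).hom.hom z) = z := fun z =>
    congrArg (fun φ => φ.hom z) (Scheme.ΓSpecIso (CommRingCat.of B)).hom_inv_id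
  have e2 : ∀ z, (Scheme.ΓSpecIso (CommRingCat.of B)).hom.hom
      ((Scheme.ΓSpecIso (CommRingCat.of B)).inv.hom z) = z := fun z =>
    congrArg (fun φ => φ.hom z) (Scheme.ΓSpecIso (CommRingCat.of B)).inv_hom_id
  have hsurj : Function.Surjective (Spec.map (CommRingCat.ofHom (IsLocalRing.residue B))).appTop.hom := by
    intro y
    obtain ⟨r, hr⟩ := IsLocalRing.residue_surjective
      ((Scheme.ΓSpecIso (CommRingCat.of (IsLocalRing.ResidueField B))).hom.hom y)
    refine ⟨(Scheme.ΓSpecIso (CommRingCat.of B)).inv.hom r, ?_⟩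
    apply (ConcreteCategory.bijective_of_isIso (Scheme.ΓSpecIso (CommRingCat.of (IsLocalRing.ResidueField B))).hom).1
    have h2 := hnx ((Scheme.ΓSpecIso (CommRingCat.of B)).inv.hom r)
    rw [e2, hr] at h2
    exact h2
  have h2 := ker_le_of_isPushout h1 hsurj
  have h3 : a ∈ RingHom.ker (i.appLE U (i ⁻¹ᵁ U ⊓ q₀ ⁻¹ᵁ ⊤) (by simp)).hom := by
    rw [RingHom.mem_ker, Scheme.Hom.appLE, CommRingCat.hom_comp, RingHom.comp_apply, ha, map_zero]
  have h4 := h2 h3
  have h5 : ∀ w : Γ(X, U), w ∈ (RingHom.ker (Spec.map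
      (CommRingCat.ofHom (IsLocalRing.residue B))).appTop.hom).map (q.appLE ⊤ U hUSX).hom →
      ores (le_top : U ≤ ⊤) (gl q z) * w = 0 := by
    intro w hw
    refine Submodule.span_induction ?_ ?_ ?_ ?_ hw
    · rintro _ ⟨c, hc, rfl⟩
      have hc1 : (Scheme.ΓSpecIso (CommRingCat.of B)).hom.hom c ∈ IsLocalRing.maximalIdeal B := by
        rw [← IsLocalRing.ker_residue, RingHom.mem_ker, ← hnx, RingHom.mem_ker.1 hc, map_zero]
      have hc2 := hz _ hc1
      have hc3 : ores (le_top : U ≤ ⊤) (gl q z) =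
        (q.appLE ⊤ U hUSX).hom ((Scheme.ΓSpecIso (CommRingCat.of B)).inv.hom z) := rfl
      rw [hc3, ← map_mul]
      have hc4 := congrArg (Scheme.ΓSpecIso (CommRingCat.of B)).inv.hom hc2
      rw [map_mul, map_zero, e1] at hc4
      rw [hc4, map_zero]
    · rw [mul_zero]
    · intro x y _ _ hx hy
      rw [mul_add, hx, hy, add_zero]
    · intro c x _ hx
      rw [smul_eq_mul, mul_left_comm, hx, mul_zero]
  exact h5 a h4

include H in
/-- Sections of an invertible module vanishing on the closed fibre are killed by the socle. -/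
theorem smul_eq_zero {F : X.Modules} (hF : PicF.IsInvertible F) (s : Γ(F, ⊤)) (z : B)
    (hz : ∀ a ∈ IsLocalRing.maximalIdeal B, z * a = 0) (hs : pullHom i (homOf s) = 0) :
    gl q z • s = 0 := by
  have key : ∀ x : X, ∃ U : X.Opens, x ∈ U ∧ res F (le_top : U ≤ ⊤) (gl q z • s) = 0 := by
    intro x
    obtain ⟨U, e, hx, he⟩ := (isInvertible_iff F).1 hF x
    obtain ⟨W, hW, hxW, hWU⟩ := (Opens.isBasis_iff_nbhd.1 X.isBasis_affineOpens) hx
    have he' := he.res hWU
    obtain ⟨a, ha⟩ := he'.exists_eq (res F (le_top : W ≤ ⊤) s)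
    refine ⟨W, hxW, ?_⟩
    have h1 : sec (pullHom i (homOf s)) (i ⁻¹ᵁ W) = i.app W a • pullSec i (res F hWU e) := by
      rw [sec_pullHom, sec_homOf, ha, pullSec_smul]
    rw [hs] at h1
    have h2 : i.app W a • pullSec i (res F hWU e) = (0 : Γ(X₀, i ⁻¹ᵁ W)) • pullSec i (res F hWU e) := by
      rw [← h1, zero_smul]
      rfl
    have h3 := (he'.pullSec i).ext h2
    rw [res_smul, ha, smul_smul, mul_eq_zero q i q₀ H z hz W hW a h3, zero_smul]
  choose U hxU hU using key
  refine res_ext F U (fun _ => le_top) (fun x _ => Opens.mem_iSup.mpr ⟨x, hxU x⟩) fun x => ?_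
  rw [hU, map_zero]

include H in
/-- Triviality of a deformation. -/
theorem nonempty_iso {F : X.Modules} (hF : PicF.IsInvertible F) (s : Γ(F, ⊤)) (z : B)
    (hz : ∀ a ∈ IsLocalRing.maximalIdeal B, z * a = 0) (hs : gl q z • s ≠ 0)
    (h0 : Nonempty ((Scheme.Modules.pullback i).obj F ≅ Coh.structureModule X₀))
    (hfield : ∀ r : Γ(X₀, ⊤), r = 0 ∨ IsUnit r) (hsurj : Function.Surjective i) :
    Nonempty (F ≅ Coh.structureModule X) := by
  obtain ⟨e⟩ := h0
  have hr : ∃ r : Γ(X₀, ⊤), pullHom i (homOf s) ≫ e.hom = homOf (ofFun r) := by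
    obtain ⟨r, hr⟩ : ∃ r, ofFun r = sec (pullHom i (homOf s) ≫ e.hom) ⊤ := ofFun.surjective _
    exact ⟨r, by rw [hr, homOf_sec]⟩
  obtain ⟨r, hr⟩ := hr
  rcases hfield r with rfl | hu
  · exfalso
    apply hs
    apply smul_eq_zero q i q₀ H hF s z hz
    rw [← cancel_mono e.hom, hr, zero_comp]
    refine hom_ext_sec ?_
    rw [sec_homOf, map_zero, map_zero]
    rfl
  · have h1 : CohB1.genLocus _ (pullHom i (homOf s) ≫ e.hom) = ⊤ := by
      rw [hr, Groth.Agent.Ega2.Weight.genLocus_homOf_ofFun]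
      exact X₀.basicOpen_of_isUnit hu
    have h2 : CohB1.genLocus F (homOf s) = ⊤ := by
      rw [eq_top_iff]
      intro x _
      obtain ⟨y, rfl⟩ := hsurj x
      have h3 : y ∈ i ⁻¹ᵁ CohB1.genLocus F (homOf s) := by
        rw [← Groth.Agent.Ega1.AmpFam.genLocus_pullHom i hF]
        rw [mem_genLocus_iff]
        have h4 : y ∈ CohB1.genLocus _ (pullHom i (homOf s) ≫ e.hom) := by rw [h1]; trivial
        rw [mem_genLocus_iff] at h4
        obtain ⟨U, hyU, hU⟩ := h4
        refine ⟨U, hyU, ?_⟩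
        rw [sec_comp] at hU
        exact (isGen_app_iff e.hom _).1 hU
      exact h3
    have h3 : IsGen (sec (homOf s) ⊤) := (le_genLocus_iff (homOf s) ⊤).1 h2.ge
    have h4 : IsIso (homOf s) := (isIso_iff_isGen (homOf s)).2 h3
    exact ⟨(asIso (homOf s)).symm⟩

end Art

end K511.TrivDef
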