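import Mathlib.AlgebraicGeometry.Stalk
import Mathlib.AlgebraicGeometry.Morphisms.Preimmersion

/-!
# Rational points and local rings

`η : Spec k ⟶ Y` a section of `Y ⟶ Spec k`.
-/

set_option autoImplicit false
universe u

open CategoryTheory CategoryTheory.Limits AlgebraicGeometry IsLocalRing

namespace K511.UnitPt

variable {k : Type u} [Field k] {Y : Scheme.{u}} (p : Y ⟶ Spec (CommRingCat.of k))
  (η : Spec (CommRingCat.of k) ⟶ Y)

/-- The point. -/
noncomputable def pt : Y := η (closedPoint k)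

/-- The evaluation at the point. -/
noncomputable def ρ : Y.presheaf.stalk (pt η) ⟶ CommRingCat.of k :=
  Scheme.stalkClosedPointTo η

theorem spec_ρ : Spec.map (ρ η) ≫ Y.fromSpecStalk (pt η) = η :=
  Scheme.Spec_stalkClosedPointTo_fromSpecStalk η

instance : IsLocalHom (ρ η).hom := Scheme.isLocalHom_stalkClosedPointTo η

theorem mem_ker (a : Y.presheaf.stalk (pt η)) : (ρ η).hom a = 0 ↔ a ∈ maximalIdeal (Y.presheaf.stalk (pt η)) := by
  rw [mem_maximalIdeal, mem_nonunits_iff, ← isUnit_map_iff (ρ η).hom a, isUnit_iff_ne_zero, not_not]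

theorem factor {B : CommRingCat.{u}} (θ : Y.presheaf.stalk (pt η) ⟶ B) (σ : Spec B ⟶ Spec (CommRingCat.of k))
    (h : Spec.map θ ≫ Y.fromSpecStalk (pt η) = σ ≫ η) (a : Y.presheaf.stalk (pt η))
    (ha : a ∈ maximalIdeal (Y.presheaf.stalk (pt η))) : θ.hom a = 0 := by
  obtain ⟨r, rfl⟩ := Spec.map_surjective σ
  have h1 : Spec.map θ = Spec.map (ρ η ≫ r) := by
    rw [← cancel_mono (Y.fromSpecStalk (pt η)), h, Spec.map_comp, Category.assoc, spec_ρ]
  have h2 := Spec.map_injective h1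
  rw [h2, CommRingCat.comp_apply, (mem_ker η a).2 ha, map_zero]

include p in
theorem unit_of_kill (hη : η ≫ p = 𝟙 _) {B : CommRingCat.{u}} (θ : Y.presheaf.stalk (pt η) ⟶ B)
    (h : ∀ a ∈ maximalIdeal (Y.presheaf.stalk (pt η)), θ.hom a = 0) :
    Spec.map θ ≫ Y.fromSpecStalk (pt η) = ((Spec.map θ ≫ Y.fromSpecStalk (pt η)) ≫ p) ≫ η := by
  obtain ⟨r, hr⟩ := Spec.map_surjective (Y.fromSpecStalk (pt η) ≫ p)
  have h1 : r ≫ ρ η = 𝟙 _ := by
    apply Spec.map_injective
    rw [Spec.map_comp, hr, ← Category.assoc, spec_ρ, hη, Spec.map_id]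
  have h2 : θ = ρ η ≫ r ≫ θ := by
    ext a
    have h3 : a - r.hom ((ρ η).hom a) ∈ maximalIdeal (Y.presheaf.stalk (pt η)) := by
      rw [← mem_ker, map_sub]
      have h4 : (ρ η).hom (r.hom ((ρ η).hom a)) = (ρ η).hom a := congr($(h1).hom ((ρ η).hom a))
      rw [h4, sub_self]
    have h4 := h _ h3
    rw [map_sub, sub_eq_zero] at h4
    exact h4
  rw [Category.assoc (Spec.map θ), ← hr, ← Spec.map_comp]
  conv_lhs => rw [h2]
  rw [Spec.map_comp, Category.assoc, spec_ρ]

end K511.UnitPt
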