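import Groth.Agent.AbVar.K511.PFib
import Groth.Agent.AbVar.K511.LocPush
import Groth.Agent.AbVar.K511.UnitPt
import Groth.Agent.AbVar.K511.TrivDef
import Groth.Agent.AbVar.K524.Key
import Groth.Agent.S1536

/-!
# The Poincaré module over the dual abelian variety: the local statement

`k` a field, `P` the Poincaré module on `A × Aᵗ`. The hypotheses of `K511.LocPush.main` for the second projection and
the unit point of `Aᵗ`.
-/

set_option autoImplicit false
universe u

open CategoryTheory CategoryTheory.Limits MonoidalCategory CartesianMonoidalCategory MonObj GrpObj AlgebraicGeometry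
open IsLocalRing

namespace K511.Poin2

open Groth.Agent Groth.Agent.Grpsch.PicGrp Groth.Agent.Grpsch.Cube Groth.Agent.Fga.RigGrp K732.Cov K732.PicZero
  K732.RigSheaf K732.Dual K732.CubeSec K732.Transp K732.Prim K732.BC K524.Kun K524.PicZeroVan K511.PFib

variable {k : Type u} [Field k] {A At : Over (Spec (CommRingCat.of k))} [GrpObj A] [IsProper A.hom] [Smooth A.hom]
  [GeometricallyConnected A.hom] [GrpObj At] [LocallyOfFiniteType At.hom] [GeometricallyConnected At.hom]
  {φ : ∀ T : Over (Spec (CommRingCat.of k)), PicF.Cl (PicF.XT A.hom T) → (T ⟶ At)}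
  (hD : AbDual.IsDualAV Scheme.fppfPrecoverage A At φ) {ξ : Pic (PicF.XT A.hom At)}
  (h1 : ξ ∈ pz A.hom At) (h2 : ξ ∈ rg A At) (h3 : cm φ ξ = 𝟙 At)

/-- The unit point. -/
noncomputable abbrev y₀ (At : Over (Spec (CommRingCat.of k))) [GrpObj At] : At.left := UnitPt.pt η[At].left

section Square

/-- The projection `A × Aᵗ ⟶ Aᵗ`. -/
noncomputable abbrev pr (A At : Over (Spec (CommRingCat.of k))) : PicF.XT A.hom At ⟶ At.left :=
  PicF.XTproj A.hom At

omit [GrpObj A] [IsProper A.hom] [Smooth A.hom] [GeometricallyConnected A.hom] [GrpObj At]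
  [LocallyOfFiniteType At.hom] [GeometricallyConnected At.hom] in
/-- Any pull back square of the projection. -/
theorem exists_iso {T : Over (Spec (CommRingCat.of k))} (t : T ⟶ At) {X' : Scheme.{u}} {j : X' ⟶ PicF.XT A.hom At}
    {q : X' ⟶ T.left} (H : IsPullback j q (pr A At) t.left) :
    ∃ i : X' ≅ PicF.XT A.hom T, i.hom ≫ PicF.XTmap A.hom t = j ∧ i.hom ≫ PicF.XTproj A.hom T = q :=
  ⟨H.isoIsPullback _ _ (isPullback_XTmap t), H.isoIsPullback_hom_fst _ _ _, H.isoIsPullback_hom_snd _ _ _⟩

end Square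

omit [LocallyOfFiniteType At.hom] [GeometricallyConnected At.hom] in
include hD h1 h2 h3 in
/-- The class on the fibre over the unit is trivial. -/
theorem pull_one (T : Over (Spec (CommRingCat.of k))) : pull (PicF.XTmap A.hom (1 : T ⟶ At)) ξ = 1 := by
  have := K732.AV.geomInt A
  refine cm_inj hD (bijective_XTproj A.hom) (pull_XTmap_mem _ h1) (one_mem _) (pull_mem _ h2)
    (one_mem _) ?_
  rw [cm_pull hD _ h1, h3, Category.comp_id, cm_one hD]

omit [IsProper A.hom] [Smooth A.hom] [GeometricallyConnected A.hom] [LocallyOfFiniteType At.hom]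
  [GeometricallyConnected At.hom] [GrpObj A] in
/-- The unit morphism. -/
theorem one_left (T : Over (Spec (CommRingCat.of k))) : (1 : T ⟶ At).left = T.hom ≫ η[At].left := rfl

include hD h1 h2 h3 in
theorem fibAway {P : (PicF.XT A.hom At).Modules} (hP : PicF.IsInvertible P) (hξ : ξ = mk P hP) :
    LocPush.FibAway (pr A At) P (y₀ At) := by
  intro K _ t ht
  let T : Over (Spec (CommRingCat.of k)) := Over.mk (t ≫ At.hom)
  let tt : T ⟶ At := Over.homMk t rfl
  refine ⟨PicF.XT A.hom T, PicF.XTmap A.hom tt, PicF.XTproj A.hom T, isPullback_XTmap tt, fun p => ?_⟩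
  have hne : tt ≠ 1 := by
    intro h
    apply ht
    have h4 : t = T.hom ≫ η[At].left := congrArg CommaMorphism.left h
    rw [h4, Scheme.Hom.comp_apply]
    change _ = η[At].left (closedPoint k)
    congr 1
    exact Subsingleton.elim (α := PrimeSpectrum k) _ _
  have h4 : Van (pull (PicF.XTmap A.hom tt) ξ) p := van hD h1 h2 h3 (t ≫ At.hom) tt hne p
  rw [hξ, pull_mk] at h4
  exact (van_mk _ _).1 h4

include hD h1 h2 h3 in
theorem unitFibre {P : (PicF.XT A.hom At).Modules} (hP : PicF.IsInvertible P) (hξ : ξ = mk P hP) (g : ℕ)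
    (hg : topologicalKrullDim A.left ≤ g) :
    ∃ (K : Type u) (_ : Field K) (t : Spec (CommRingCat.of K) ⟶ At.left) (X' : Scheme.{u})
      (j : X' ⟶ PicF.XT A.hom At) (q : X' ⟶ Spec (CommRingCat.of K)), t (closedPoint K) = y₀ At ∧
      IsPullback j q (pr A At) t ∧
      @Module.finrank K (Coh.HH X' ((Scheme.Modules.pullback j).obj P) 0) _ _
        (@Coh.moduleOver K _ X' ⟨q⟩ _ 0) = 1 ∧
      ∀ p, g < p → Subsingleton (Coh.HH X' ((Scheme.Modules.pullback j).obj P) p) := by
  let T : Over (Spec (CommRingCat.of k)) := Over.mk (𝟙 (Spec (CommRingCat.of k)))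
  let t : T ⟶ At := Over.homMk η[At].left (Over.w η[At])
  have ht : t = 1 := by
    ext1
    exact (Category.id_comp _).symm
  have htriv : pull (PicF.XTmap A.hom t) ξ = 1 := by rw [ht]; exact pull_one hD h1 h2 h3 T
  have i1 : IsProper (PicF.XTproj A.hom T) := inferInstanceAs (IsProper (pullback.snd A.hom T.hom))
  have i2 : Smooth (PicF.XTproj A.hom T) := inferInstanceAs (Smooth (pullback.snd A.hom T.hom))
  have i3 : GeometricallyConnected (PicF.XTproj A.hom T) :=
    inferInstanceAs (GeometricallyConnected (pullback.snd A.hom T.hom))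
  have i4 : GeometricallyReduced (PicF.XTproj A.hom T) :=
    Groth.Agent.Flat2B.SmoothGeom.geometricallyReduced_of_smooth _
  have i5 : IsIso (pullback.fst A.hom T.hom) := by
    have : IsIso T.hom := inferInstanceAs (IsIso (𝟙 (Spec (CommRingCat.of k))))
    infer_instance
  have hdim : topologicalKrullDim (PicF.XT A.hom T) ≤ g := by
    have h4 : topologicalKrullDim (PicF.XT A.hom T) = topologicalKrullDim A.left :=
      IsHomeomorph.topologicalKrullDim_eq _ (pullback.fst A.hom T.hom).homeomorph.isHomeomorph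
    rw [h4]
    exact hg
  rw [hξ, pull_mk, mk_eq_one_iff] at htriv
  obtain ⟨e⟩ := htriv
  refine ⟨k, inferInstance, η[At].left, PicF.XT A.hom T, PicF.XTmap A.hom t, PicF.XTproj A.hom T, rfl,
    isPullback_XTmap t, ?_, fun p hp => ?_⟩
  · let _ : (PicF.XT A.hom T).Over (Spec (CommRingCat.of k)) := ⟨PicF.XTproj A.hom T⟩
    obtain ⟨e', he'⟩ := Ega3B.FibreResid.exists_equiv_HH e 0
    let e2 : Coh.HH _ ((Scheme.Modules.pullback (PicF.XTmap A.hom t)).obj P) 0 ≃ₗ[k]
      Coh.HH _ (Coh.structureModule (PicF.XT A.hom T)) 0 := { e' with map_smul' := fun r x => he' _ x }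
    have i6 : IsProper ((PicF.XT A.hom T) ↘ Spec (CommRingCat.of k)) := i1
    have i7 : GeometricallyReduced ((PicF.XT A.hom T) ↘ Spec (CommRingCat.of k)) := i4
    have i8 : GeometricallyConnected ((PicF.XT A.hom T) ↘ Spec (CommRingCat.of k)) := i3
    exact e2.finrank_eq.trans (Groth.Agent.S1536.result k (PicF.XT A.hom T))
  · have h5 := K524.Key.van_of_dim (PicF.XTproj A.hom T) hdim (pull (PicF.XTmap A.hom t) ξ) p hp
    rw [hξ, pull_mk] at h5
    exact (van_mk _ _).1 h5

include hD h1 h2 h3 in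
/-- The class is trivial on any scheme over the unit point. -/
theorem pull_eq_one_of_unit {X' Y' : Scheme.{u}} {j : X' ⟶ PicF.XT A.hom At} {q : X' ⟶ Y'} {t : Y' ⟶ At.left}
    (H : IsPullback j q (pr A At) t) (ht : t = (t ≫ At.hom) ≫ η[At].left) : pull j ξ = 1 := by
  let T : Over (Spec (CommRingCat.of k)) := Over.mk (t ≫ At.hom)
  let tt : T ⟶ At := Over.homMk t rfl
  have h4 : tt = 1 := by
    ext1
    exact ht
  obtain ⟨i, hi, -⟩ := exists_iso (A := A) tt H
  have h5 : pull j ξ = pull i.hom (pull (PicF.XTmap A.hom tt) ξ) := by rw [← pull_comp, hi]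
  rw [h5, h4, pull_one hD h1 h2 h3, map_one]

include hD h1 h3 in
omit [IsProper A.hom] [Smooth A.hom] [GeometricallyConnected A.hom] [GrpObj A] [LocallyOfFiniteType At.hom]
  [GeometricallyConnected At.hom] in
/-- If the class is trivial on the pull back then the point is the unit. -/
theorem unit_of_pull_eq_one {X' Y' : Scheme.{u}} {j : X' ⟶ PicF.XT A.hom At} {q : X' ⟶ Y'} {t : Y' ⟶ At.left}
    (H : IsPullback j q (pr A At) t) (h : pull j ξ = 1) : t = (t ≫ At.hom) ≫ η[At].left := by
  let T : Over (Spec (CommRingCat.of k)) := Over.mk (t ≫ At.hom)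
  let tt : T ⟶ At := Over.homMk t rfl
  obtain ⟨i, hi, -⟩ := exists_iso (A := A) tt H
  have h5 : pull (PicF.XTmap A.hom tt) ξ = 1 := by
    have h6 : pull i.inv (pull j ξ) = pull (PicF.XTmap A.hom tt) ξ := by
      rw [← pull_comp, ← hi, Iso.inv_hom_id_assoc]
    rw [← h6, h, map_one]
  exact congrArg CommaMorphism.left (eq_one hD h1 h3 tt h5)

/-- Global functions on a base change of `A` to a field. -/
theorem field_sections {X' : Scheme.{u}} {K : Type u} [Field K] {j : X' ⟶ PicF.XT A.hom At}
    {q : X' ⟶ Spec (CommRingCat.of K)} {t : Spec (CommRingCat.of K) ⟶ At.left} (H : IsPullback j q (pr A At) t)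
    (r : Γ(X', ⊤)) : r = 0 ∨ IsUnit r := by
  have := K732.AV.geomInt A
  let T : Over (Spec (CommRingCat.of k)) := Over.mk (t ≫ At.hom)
  let tt : T ⟶ At := Over.homMk t rfl
  obtain ⟨i, -, hi⟩ := exists_iso (A := A) tt H
  have h4 := bijective_XTproj A.hom T
  have h5 : Function.Bijective q.appTop.hom := by
    rw [← hi, Scheme.Hom.comp_appTop]
    have h7 : IsIso i.hom.appTop := inferInstanceAs (IsIso (i.hom.app ⊤))
    have h6 : Function.Bijective i.hom.appTop.hom := ConcreteCategory.bijective_of_isIso i.hom.appTop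
    exact h6.comp h4
  obtain ⟨c, rfl⟩ := h5.2 r
  obtain ⟨d, rfl⟩ : ∃ d, (Scheme.ΓSpecIso (CommRingCat.of K)).inv.hom d = c :=
    (ConcreteCategory.bijective_of_isIso (Scheme.ΓSpecIso (CommRingCat.of K)).inv).2 c
  rcases eq_or_ne d 0 with rfl | hd
  · left
    rw [map_zero, map_zero]
  · right
    exact ((isUnit_iff_ne_zero.2 hd).map (Scheme.ΓSpecIso (CommRingCat.of K)).inv.hom).map q.appTop.hom

include hD h1 h2 h3 in
theorem geo {P : (PicF.XT A.hom At).Modules} (hP : PicF.IsInvertible P) (hξ : ξ = mk P hP)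
    (B : Type u) [CommRing B] [IsLocalRing B] (θ : At.left.presheaf.stalk (y₀ At) →+* B) (n : ℕ)
    (hθ : Function.Surjective θ) (hn : maximalIdeal B ^ n = ⊥) (X' : Scheme.{u}) (j : X' ⟶ PicF.XT A.hom At)
    (q : X' ⟶ Spec (CommRingCat.of B))
    (H : IsPullback j q (pr A At) (Spec.map (CommRingCat.ofHom θ) ≫ At.left.fromSpecStalk (y₀ At)))
    (z : B) (s : Coh.HH X' ((Scheme.Modules.pullback j).obj P) 0) (hz : ∀ a ∈ maximalIdeal B, z * a = 0)
    (hs : Coh.toGlobal q z • s ≠ 0) : ∀ a ∈ maximalIdeal (At.left.presheaf.stalk (y₀ At)), θ a = 0 := by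
  have hη : η[At].left ≫ At.hom = 𝟙 _ := Over.w η[At]
  -- the closed fibre
  let r : Spec (CommRingCat.of (ResidueField B)) ⟶ Spec (CommRingCat.of B) :=
    Spec.map (CommRingCat.ofHom (residue B))
  have H0 := IsPullback.of_hasPullback q r
  have H1 := H0.paste_horiz H
  have hkill : ∀ a ∈ maximalIdeal (At.left.presheaf.stalk (y₀ At)),
      (CommRingCat.ofHom ((residue B).comp θ)).hom a = 0 := by
    intro a ha
    have h4 : θ a ∈ maximalIdeal B := by
      rw [← IsLocalRing.map_maximalIdeal_of_surjective θ hθ]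
      exact Ideal.mem_map_of_mem _ ha
    exact (IsLocalRing.residue_eq_zero_iff _).2 h4
  have hunit := UnitPt.unit_of_kill At.hom η[At].left hη (CommRingCat.ofHom ((residue B).comp θ)) hkill
  have h0 : pull (pullback.fst q r ≫ j) ξ = 1 := by
    refine pull_eq_one_of_unit hD h1 h2 h3 H1 ?_
    have h4 : r ≫ Spec.map (CommRingCat.ofHom θ) = Spec.map (CommRingCat.ofHom ((residue B).comp θ)) := by
      rw [← Spec.map_comp]
      rfl
    rw [← Category.assoc r, h4]
    exact hunit
  have hsurj : Function.Surjective (pullback.fst q r) := by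
    have h4 : Surjective r := by
      rw [surjective_iff]
      intro x
      refine ⟨closedPoint (ResidueField B), ?_⟩
      have h5 : x = closedPoint B := by
        apply PrimeSpectrum.ext
        have h6 : maximalIdeal B ≤ x.asIdeal := x.2.le_of_pow_le (n := n) (by rw [hn]; exact bot_le)
        exact le_antisymm (IsLocalRing.le_maximalIdeal x.2.ne_top) h6
      rw [h5]
      apply PrimeSpectrum.ext
      change Ideal.comap (residue B) (maximalIdeal (ResidueField B)) = maximalIdeal B
      rw [IsLocalRing.maximalIdeal_eq_bot]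
      exact IsLocalRing.ker_residue
    have h5 : Surjective (pullback.fst q r) := inferInstance
    exact h5.surj
  have hiso : Nonempty ((Scheme.Modules.pullback j).obj P ≅ Coh.structureModule X') := by
    refine TrivDef.nonempty_iso q (pullback.fst q r) (pullback.snd q r) H0 (Groth.Agent.Fdesc.LocGen.isInvertible_pullback j hP)
      (Ega3B.SectExact.secEquiv _ s) z hz ?_ ?_ (fun w => field_sections (A := A) (At := At) H1 w) hsurj
    · intro h4
      apply hs
      apply (Ega3B.SectExact.secEquiv _).injective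
      rw [map_zero]
      exact (TrivDef.secEquiv_smul _ (TrivDef.gl q z) s).trans h4
    · rw [pull_comp, hξ, pull_mk, pull_mk, mk_eq_one_iff] at h0
      exact h0
  have h6 : pull j ξ = 1 := by
    rw [hξ, pull_mk, mk_eq_one_iff]
    exact hiso
  have h7 := unit_of_pull_eq_one (A := A) hD h1 h3 H h6
  exact fun a ha => UnitPt.factor η[At].left (CommRingCat.ofHom θ) _ h7 a ha

end K511.Poin2
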