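import Groth.Agent.AbVar.K511.LocPush

/-!
# The dimension of the base is at most that of the fibres

In the situation of `K511.LocPush.main`, if the cohomology of the exceptional fibre vanishes in degrees `> g` and is
non-zero in degree zero, then the base has dimension at most `g` at the exceptional point.
-/

set_option autoImplicit false
universe u

open CategoryTheory CategoryTheory.Limits AlgebraicGeometry Opposite TopologicalSpace IsLocalRing

namespace K511.DimLe

open Groth.Agent K511.PackB K511.SkyLoc K511.SkyAlg K511.LocPush Groth.Agent.Ega3A.TFunBasic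

section Alg

variable {R : Type u} [CommRing R] [IsNoetherianRing R] (P : ChainComplex (ModuleCat.{u} R) ℤ)

omit [IsNoetherianRing R] in
theorem isZero_of_isZero_X (i : ℤ) (hi : IsZero (P.X i)) (N : ModuleCat.{u} R) :
    IsZero ((CohIII.TFun P i).obj N) := by
  have h1 : IsZero ((((MonoidalCategory.tensorRight N).mapHomologicalComplex (ComplexShape.down ℤ)).obj P).X i) :=
    (MonoidalCategory.tensorRight N).map_isZero hi
  have h4 : IsZero ((((MonoidalCategory.tensorRight N).mapHomologicalComplex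
      (ComplexShape.down ℤ)).obj P).homology i) := by
    rw [← HomologicalComplex.exactAt_iff_isZero_homology]
    exact ShortComplex.exact_of_isZero_X₂ _ h1
  exact h4

omit [IsNoetherianRing R] in
/-- `T_i` of a finite free module. -/
theorem isZero_free (i : ℤ) (h : IsZero ((CohIII.TFun P i).obj (ModuleCat.of R R))) (n : ℕ) :
    IsZero ((CohIII.TFun P i).obj (ModuleCat.of R (Fin n → R))) := by
  rw [IsZero.iff_id_eq_zero, ← (CohIII.TFun P i).map_id]
  have h1 : 𝟙 (ModuleCat.of R (Fin n → R)) = ∑ j : Fin n,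
      (ModuleCat.ofHom (LinearMap.proj j) : ModuleCat.of R (Fin n → R) ⟶ ModuleCat.of R R) ≫
        ModuleCat.ofHom (LinearMap.single R (fun _ => R) j) := by
    ext x k
    rw [ModuleCat.hom_sum]
    simp [Pi.single_apply]
  rw [h1, Functor.map_sum]
  refine Finset.sum_eq_zero fun j _ => ?_
  rw [Functor.map_comp, h.eq_of_tgt ((CohIII.TFun P i).map _) 0, zero_comp]

/-- A bounded below complex of flat modules with vanishing homology stays acyclic. -/
theorem isZero_T (hP : ∀ i, Module.Flat R (P.X i)) (b : ℤ) (hb : ∀ i, i < b → IsZero (P.X i))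
    (h : ∀ i, IsZero ((CohIII.TFun P i).obj (ModuleCat.of R R))) :
    ∀ (k : ℕ) (i : ℤ) (N : ModuleCat.{u} R), Module.Finite R N → i < b + k → IsZero ((CohIII.TFun P i).obj N) := by
  intro k
  induction k with
  | zero =>
    intro i N _ hi
    exact isZero_of_isZero_X P i (hb i (by simpa using hi)) N
  | succ k ih =>
    intro i N hN hi
    obtain ⟨n, f, hf⟩ := Module.Finite.exists_fin' R N
    have hS : (ShortComplex.mk (ModuleCat.ofHom (LinearMap.ker f).subtype) (ModuleCat.ofHom f) (by
        ext x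
        exact x.2)).ShortExact :=
      { exact := by
          rw [ShortComplex.moduleCat_exact_iff]
          intro x hx
          exact ⟨⟨x, hx⟩, rfl⟩
        mono_f := by
          rw [ModuleCat.mono_iff_injective]
          exact Subtype.val_injective
        epi_g := by
          rw [ModuleCat.epi_iff_surjective]
          exact hf }
    have e := T_exact₃ P hP hS i (i - 1) (by simp)
    refine e.isZero_of_both_zeros ?_ ?_
    · exact (isZero_free P i (h i) n).eq_of_src _ _
    · have : Module.Finite R (LinearMap.ker f) := Module.Finite.of_fg (IsNoetherian.noetherian _)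
      exact (ih (i - 1) (ModuleCat.of R (LinearMap.ker f)) this (by push_cast at hi; omega)).eq_of_tgt _ _

end Alg

section AlgMain

variable {C : Type u} [CommRing C] [IsNoetherianRing C]

/-- The depth of the base is at most the top degree. -/
theorem dim_le_alg (P : ChainComplex (ModuleCat.{u} C) ℤ)
    (hP : ∀ i, Module.Finite C (P.X i) ∧ Module.Flat C (P.X i))
    (hb : ∃ b : ℤ, ∀ i, (i < b ∨ 0 < i) → IsZero (P.X i))
    (x₀ : PrimeSpectrum C) [x₀.asIdeal.IsMaximal] (R : Type u) [CommRing R] [IsRegularLocalRing R] [Algebra C R]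
    [IsLocalization.AtPrime R x₀.asIdeal]
    (d : ℕ) (hd : ringKrullDim R = d)
    (h1 : ∀ x, x ≠ x₀ → ∀ i, CohIII.dRank P i x = 0) (g : ℕ)
    (hlow : ∀ i : ℤ, i < -(g : ℤ) → CohIII.dRank P i x₀ = 0)
    (h0 : CohIII.dRank P 0 x₀ = 1) : d ≤ g := by
  by_contra hlt
  rw [not_le] at hlt
  obtain ⟨b, hb⟩ := hb
  have hflat : Module.Flat C R := IsLocalization.flat R x₀.asIdeal.primeCompl
  let PR := CohIII.bcCx (algebraMap C R) P
  have hPR : ∀ i, Module.Finite R (PR.X i) ∧ Module.Flat R (PR.X i) := by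
    intro i
    have := (hP i).1
    have := (hP i).2
    exact ⟨Ega3A.BcBasic.finite_X_bc R P i, Ega3A.BcBasic.flat_X_bc R P i⟩
  have hz0 : ∀ i, 0 < i → IsZero (PR.X i) := fun i hi => isZero_bcCx_X _ P i (hb i (Or.inr hi))
  have hzb : ∀ i, i < b → IsZero (PR.X i) := fun i hi => isZero_bcCx_X _ P i (hb i (Or.inl hi))
  have hx0 : PrimeSpectrum.comap (algebraMap C R) (closedPoint R) = x₀ := by
    ext1
    exact IsLocalization.AtPrime.under_maximalIdeal R x₀.asIdeal
  have hne : ∀ x' : PrimeSpectrum R, x' ≠ closedPoint R → PrimeSpectrum.comap (algebraMap C R) x' ≠ x₀ := by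
    intro x' hx' h
    apply hx'
    apply PrimeSpectrum.localization_comap_injective R x₀.asIdeal.primeCompl
    rw [h, hx0]
  have hac : ∀ x' : PrimeSpectrum R, x' ≠ closedPoint R → ∀ i, CohIII.dRank PR i x' = 0 := by
    intro x' hx' i
    rw [Ega3A.BcFlat.dRank_bcCx P i x']
    exact h1 _ (hne x' hx') i
  have hdep : (d : ℕ∞) ≤ LocCoh.depth R R := by
    have h1 : ringKrullDim R = ((LocCoh.depth R R : ℕ∞) : WithBot ℕ∞) := by
      have h := Groth.Agent.Ega4A.RegCM.isCohenMacaulayLocalRing_of_isRegularLocalRing R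
      rw [← Module.supportDim_self_eq_ringKrullDim]
      exact h.supportDim_eq_depth
    rw [hd] at h1
    exact_mod_cast h1.le
  obtain ⟨n, hn⟩ := exists_pow_smul PR hPR b hzb 0 hz0 hac
  have hz := isZero_of_lt PR hPR hz0 hdep n hn
  have hall : ∀ i, IsZero ((CohIII.TFun PR i).obj (ModuleCat.of R R)) := by
    intro i
    rcases lt_or_ge (-(d : ℤ)) i with hi | hi
    · exact hz i hi
    have h2 : Subsingleton (P.homology i) := by
      have hfi := (hP i).1
      have hfin : Module.Finite C (P.homology i) := Ega3B.FibreRank.finite_homology P i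
      rw [← Module.support_eq_empty_iff (R := C)]
      rw [Set.eq_empty_iff_forall_notMem]
      intro x
      by_cases hx : x = x₀
      · rw [hx]
        exact notMem_support P hP i x₀ (hlow i (by omega))
      · exact notMem_support P hP i x (h1 x hx i)
    have h3 : Subsingleton (PR.homology i) := (Ega3A.BcFlat.bcHomologyEquiv P i).toEquiv.subsingleton
    exact (ModuleCat.isZero_of_subsingleton _ : IsZero (PR.homology i)).of_iso (Ega3A.BcHomology.TUnitIso PR i)
  have hκ : Module.Finite R (closedPoint R).asIdeal.ResidueField := by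
    have : (closedPoint R).asIdeal.IsMaximal := inferInstanceAs (maximalIdeal R).IsMaximal
    have h4 : Function.Surjective (algebraMap R (closedPoint R).asIdeal.ResidueField) :=
      Ideal.algebraMap_residueField_surjective _
    exact Module.Finite.of_surjective (Algebra.linearMap R (closedPoint R).asIdeal.ResidueField) h4
  have h5 := isZero_T PR (fun i => (hPR i).2) b hzb hall (1 - b).toNat 0
    (ModuleCat.of R (closedPoint R).asIdeal.ResidueField) hκ (by omega)
  obtain ⟨e, -⟩ := exists_equiv PR 0 (B := (closedPoint R).asIdeal.ResidueField)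
  have h6 := ModuleCat.subsingleton_of_isZero h5
  have h7 : Subsingleton ((CohIII.bcCx (algebraMap R (closedPoint R).asIdeal.ResidueField) PR).homology 0) :=
    e.toEquiv.subsingleton
  have h8 : CohIII.dRank PR 0 (closedPoint R) = 0 := Module.finrank_zero_of_subsingleton
  rw [Ega3A.BcFlat.dRank_bcCx P 0, hx0, h0] at h8
  exact one_ne_zero h8

end AlgMain

section Geo

variable {X Y : Scheme.{u}} (f : X ⟶ Y) [IsProper f] [Flat f] [IsLocallyNoetherian Y]
  [HasInjectiveResolutions X.Modules] {F : X.Modules} (hF : PicF.IsInvertible F) (y₀ : Y)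

include hF in
/-- Dimension of the base. -/
theorem dim_le (h1 : FibAway f F y₀) (hcl : IsClosed ({y₀} : Set Y)) [IsRegularLocalRing (Y.presheaf.stalk y₀)]
    (d : ℕ) (hd : ringKrullDim (Y.presheaf.stalk y₀) = d) (g : ℕ)
    (h2 : ∃ (K : Type u) (_ : Field K) (t : Spec (CommRingCat.of K) ⟶ Y) (X' : Scheme.{u}) (j : X' ⟶ X)
      (q : X' ⟶ Spec (CommRingCat.of K)), t (closedPoint K) = y₀ ∧ IsPullback j q f t ∧
      @Module.finrank K (Coh.HH X' ((Scheme.Modules.pullback j).obj F) 0) _ _
        (@Coh.moduleOver K _ X' ⟨q⟩ _ 0) = 1 ∧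
      ∀ p, g < p → Subsingleton (Coh.HH X' ((Scheme.Modules.pullback j).obj F) p)) : d ≤ g := by
  have hcoh := Groth.Agent.S2329.isCoh_of_isInvertible hF
  have hfl := Grpsch.CubeClosed.isFlatOver_of_isInvertible f hF
  obtain ⟨V, hV, hy⟩ : ∃ V : Y.Opens, IsAffineOpen V ∧ y₀ ∈ V := by
    obtain ⟨_, ⟨V, hV, rfl⟩, hy, -⟩ := Y.isBasis_affineOpens.exists_subset_of_mem_open
      (Set.mem_univ y₀) isOpen_univ
    exact ⟨V, hV, hy⟩
  have hN : IsNoetherianRing Γ(Y, V) := IsLocallyNoetherian.component_noetherian ⟨V, hV⟩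
  obtain ⟨P, hP, hb, hΓ, -, hcmp⟩ := package f F hcoh hfl V hV
  let x₀ := hV.primeIdealOf ⟨y₀, hy⟩
  have hmax : x₀.asIdeal.IsMaximal := isMaximal_of_isClosed hV ⟨y₀, hy⟩ hcl
  let iA : Algebra Γ(Y, V) (Y.presheaf.stalk y₀) := (Y.presheaf.germ V y₀ hy).hom.toAlgebra
  have hloc : IsLocalization.AtPrime (Y.presheaf.stalk y₀) x₀.asIdeal := hV.isLocalization_stalk ⟨y₀, hy⟩
  have hx₀ : hV.fromSpec x₀ = y₀ := hV.fromSpec_primeIdealOf ⟨y₀, hy⟩
  have hpos : ∀ i : ℤ, 0 < i → ∀ x, CohIII.dRank P i x = 0 := by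
    intro i hi x
    obtain ⟨b, hb⟩ := hb
    exact dRank_eq_zero_of_isZero P i (hb i (Or.inr hi)) x
  have hne : ∀ x, x ≠ x₀ → ∀ i, CohIII.dRank P i x = 0 := by
    intro x hx i
    rcases lt_or_ge 0 i with hi | hi
    · exact hpos i hi x
    obtain ⟨p, rfl⟩ : ∃ p : ℕ, i = -(p : ℤ) := ⟨i.natAbs, by omega⟩
    obtain ⟨X', j, q, H, hs⟩ := h1 x.asIdeal.ResidueField
      (Spec.map (CommRingCat.ofHom (algebraMap Γ(Y, V) x.asIdeal.ResidueField)) ≫ hV.fromSpec) (by
        rw [Scheme.Hom.comp_apply, spec_residue_closedPoint]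
        intro h
        apply hx
        apply hV.fromSpec.isOpenEmbedding.injective
        rw [h, hx₀])
    exact dRank_eq_zero F P x (Ideal.ker_algebraMap_residueField x.asIdeal).symm (hcmp _ X' j q H p) (hs p)
  obtain ⟨K, iK, t, X', j, q, ht, H, hf0, hfp⟩ := h2
  obtain ⟨t', ht'⟩ : ∃ t' : Spec (CommRingCat.of K) ⟶ Spec Γ(Y, V), t' ≫ hV.fromSpec = t := by
    refine ⟨IsOpenImmersion.lift hV.fromSpec t ?_, IsOpenImmersion.lift_fac _ _ _⟩
    rw [hV.range_fromSpec]
    rintro _ ⟨w, rfl⟩
    have h5 : w = closedPoint K := Subsingleton.elim (α := PrimeSpectrum K) _ _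
    rw [h5, ht]
    exact hy
  obtain ⟨τ, rfl⟩ := Spec.map_surjective t'
  let iK' : Algebra Γ(Y, V) K := τ.hom.toAlgebra
  have hker : x₀.asIdeal = RingHom.ker (algebraMap Γ(Y, V) K) := by
    have h5 : (Spec.map τ) (closedPoint K) = x₀ := by
      apply hV.fromSpec.isOpenEmbedding.injective
      rw [hx₀, ← Scheme.Hom.comp_apply, ht']
      exact ht
    have h6 := congrArg PrimeSpectrum.asIdeal h5
    rw [← h6]
    change Ideal.comap τ.hom (maximalIdeal K) = RingHom.ker τ.hom
    rw [IsLocalRing.maximalIdeal_eq_bot]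
    rfl
  have H' : IsPullback j q f (Spec.map (CommRingCat.ofHom (algebraMap Γ(Y, V) K)) ≫ hV.fromSpec) := by
    have h5 : Spec.map (CommRingCat.ofHom (algebraMap Γ(Y, V) K)) ≫ hV.fromSpec = t := ht'
    rw [h5]
    exact H
  have hlow : ∀ i : ℤ, i < -(g : ℤ) → CohIII.dRank P i x₀ = 0 := by
    intro i hi
    obtain ⟨p, rfl⟩ : ∃ p : ℕ, i = -(p : ℤ) := ⟨i.natAbs, by omega⟩
    exact dRank_eq_zero F P x₀ hker (hcmp K X' j q H' p) (hfp p (by omega))
  have h0 : CohIII.dRank P 0 x₀ = 1 := by
    have := finrank_eq F P x₀ hker (hcmp K X' j q H' 0)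
    rw [hf0] at this
    exact this.symm
  exact dim_le_alg P hP hb x₀ (Y.presheaf.stalk y₀) d hd hne g hlow h0

end Geo

end K511.DimLe
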