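import Groth.Agent.AbVar.K511.PSide
import Groth.Agent.AbVar.K511.Poin2
import Groth.Agent.AbVar.K511.DimLe
import Groth.Agent.Fdesc.GrpDimHom

/-!
# The dual abelian variety has the dimension of the abelian variety
-/

set_option autoImplicit false
universe u

open CategoryTheory CategoryTheory.Limits MonoidalCategory CartesianMonoidalCategory MonObj GrpObj AlgebraicGeometry
open IsLocalRing

namespace K511.DimEq

open Groth.Agent Groth.Agent.Grpsch.PicGrp Groth.Agent.Grpsch.Cube Groth.Agent.Fga.RigGrp K732.Cov K732.PicZero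
  K732.RigSheaf K732.Dual K732.CubeSec K732.Transp K732.Prim K732.BC K732.Bidual K524.Kun K524.PicZeroVan K511.PFib
  K511.PSide K511.Poin2

section Unit

variable {k : Type u} [Field k] (G : Over (Spec (CommRingCat.of k))) [GrpObj G]

theorem isClosedImmersion_unit [IsSeparated G.hom] : IsClosedImmersion η[G].left := by
  have h1 : η[G].left ≫ G.hom = 𝟙 (Spec (CommRingCat.of k)) := Over.w η[G]
  have h2 : IsClosedImmersion (η[G].left ≫ G.hom) := by
    rw [h1]
    exact inferInstanceAs (IsClosedImmersion (𝟙 (Spec (CommRingCat.of k))))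
  exact IsClosedImmersion.of_comp η[G].left G.hom

theorem isClosed_unit [IsSeparated G.hom] : IsClosed ({y₀ G} : Set G.left) := by
  have h1 := isClosedImmersion_unit G
  have h2 : ({y₀ G} : Set G.left) = Set.range η[G].left := by
    ext y
    constructor
    · rintro rfl
      exact ⟨closedPoint k, rfl⟩
    · rintro ⟨z, rfl⟩
      have h3 : z = closedPoint k := Subsingleton.elim (α := PrimeSpectrum k) _ _
      rw [h3]
      rfl
  rw [h2]
  exact h1.isClosedEmbedding.isClosed_range

end Unit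

variable {k : Type u} [Field k] {A At : Over (Spec (CommRingCat.of k))} [GrpObj A] [IsProper A.hom] [Smooth A.hom]
  [GeometricallyConnected A.hom] [GrpObj At] [IsProper At.hom] [Smooth At.hom] [GeometricallyConnected At.hom]
  {φ : ∀ T : Over (Spec (CommRingCat.of k)), PicF.Cl (PicF.XT A.hom T) → (T ⟶ At)}
  (hD : AbDual.IsDualAV Scheme.fppfPrecoverage A At φ) {ξ : Pic (PicF.XT A.hom At)}
  (h1 : ξ ∈ pz A.hom At) (h2 : ξ ∈ rg A At) (h3 : cm φ ξ = 𝟙 At)

section First

/-- The dimension of the fibres of the first projection. -/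
theorem dim_fibre {K : Type u} [Field K] {X' : Scheme.{u}} {j : X' ⟶ PicF.XT A.hom At}
    {q : X' ⟶ Spec (CommRingCat.of K)} {t : Spec (CommRingCat.of K) ⟶ A.left} (H : IsPullback j q (p₁ A At) t) :
    topologicalKrullDim X' = topologicalKrullDim At.left := by
  let T : Over (Spec (CommRingCat.of k)) := Over.mk (t ≫ A.hom)
  let tt : T ⟶ A := Over.homMk t rfl
  have H' := sq (At := At) tt
  let i : X' ≅ PicF.XT At.hom T := H.isoIsPullback _ _ H'
  have e1 : topologicalKrullDim X' = topologicalKrullDim (PicF.XT At.hom T) :=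
    IsHomeomorph.topologicalKrullDim_eq _ (Scheme.homeoOfIso i).isHomeomorph
  rw [e1]
  have e2 := K639.Dim.dim_pullback_field At.hom T.hom
  refine e2.trans ?_
  have h6 : IsIso (At.hom.fiberι (T.hom (closedPoint K))) := K524.Key.isIso_fiberι_spec _ _
  exact IsHomeomorph.topologicalKrullDim_eq _ (At.hom.fiberι (T.hom (closedPoint K))).homeomorph.isHomeomorph

theorem van_of_lt {P : (PicF.XT A.hom At).Modules} (hP : PicF.IsInvertible P) (d : ℕ)
    (hd : topologicalKrullDim At.left = d) {K : Type u} [Field K] {X' : Scheme.{u}} {j : X' ⟶ PicF.XT A.hom At}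
    {q : X' ⟶ Spec (CommRingCat.of K)} {t : Spec (CommRingCat.of K) ⟶ A.left} (H : IsPullback j q (p₁ A At) t)
    (p : ℕ) (hp : d < p) : Subsingleton (Coh.HH X' ((Scheme.Modules.pullback j).obj P) p) := by
  have i1 : IsProper q := MorphismProperty.of_isPullback H inferInstance
  have h4 := K524.Key.van_of_dim q (by rw [dim_fibre H, hd]) (pull j (mk P hP)) p hp
  rw [pull_mk] at h4
  exact (van_mk _ _).1 h4

end First

include hD h1 h2 h3

/-- The fibre over the unit is not acyclic. -/
theorem not_acyc {P : (PicF.XT A.hom At).Modules} (hP : PicF.IsInvertible P) (hξ : ξ = mk P hP)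
    {V : A.left.Opens} (hV : IsAffineOpen V) (hy : y₀ A ∈ V) : ¬ K512.Acyc.AcycOver (p₁ A At) P V := by
  intro hac
  have hcoh := Groth.Agent.S2329.isCoh_of_isInvertible hP
  have hfl := Grpsch.CubeClosed.isFlatOver_of_isInvertible (p₁ A At) hP
  let T : Over (Spec (CommRingCat.of k)) := Over.mk (𝟙 (Spec (CommRingCat.of k)))
  let t : T ⟶ A := Over.homMk η[A].left (Over.w η[A])
  have ht : t = 1 := by
    ext1
    exact (Category.id_comp _).symm
  have htriv : pull (jj (At := At) t) ξ = 1 := by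
    refine ext_ev fun W y w => ?_
    rw [ev_pull_jj, ht, MonObj.comp_one, map_one]
    exact ev_one_of_mem h2 y
  have i1 : IsProper (PicF.XTproj At.hom T) := inferInstanceAs (IsProper (pullback.snd At.hom T.hom))
  have i2 : Smooth (PicF.XTproj At.hom T) := inferInstanceAs (Smooth (pullback.snd At.hom T.hom))
  have i3 : GeometricallyConnected (PicF.XTproj At.hom T) :=
    inferInstanceAs (GeometricallyConnected (pullback.snd At.hom T.hom))
  have i4 : GeometricallyReduced (PicF.XTproj At.hom T) :=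
    Groth.Agent.Flat2B.SmoothGeom.geometricallyReduced_of_smooth _
  rw [hξ, pull_mk, mk_eq_one_iff] at htriv
  obtain ⟨e⟩ := htriv
  have h4 := K512.FibAcyc.fibre_of_acycOver (p₁ A At) P hcoh hfl t.left _ _ (sq (At := At) t) (closedPoint k) V hV hy
    hac 0
  let _ : (PicF.XT At.hom T).Over (Spec (CommRingCat.of k)) := ⟨PicF.XTproj At.hom T⟩
  obtain ⟨e', he'⟩ := Ega3B.FibreResid.exists_equiv_HH e 0
  have i6 : IsProper ((PicF.XT At.hom T) ↘ Spec (CommRingCat.of k)) := i1
  have i7 : GeometricallyReduced ((PicF.XT At.hom T) ↘ Spec (CommRingCat.of k)) := i4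
  have i8 : GeometricallyConnected ((PicF.XT At.hom T) ↘ Spec (CommRingCat.of k)) := i3
  have h5 := Groth.Agent.S1536.result k (PicF.XT At.hom T)
  have h6 : Subsingleton (Coh.HH _ (Coh.structureModule (PicF.XT At.hom T)) 0) := e'.symm.toEquiv.subsingleton
  rw [Module.finrank_zero_of_subsingleton] at h5
  exact zero_ne_one h5

/-- `dim Aᵗ ≤ dim A`. -/
theorem le₁ {P : (PicF.XT A.hom At).Modules} (hP : PicF.IsInvertible P) (hξ : ξ = mk P hP) (g d : ℕ)
    (hg : topologicalKrullDim A.left = g) (hd : topologicalKrullDim At.left = d) : d ≤ g := by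
  have i1 : IsLocallyNoetherian At.left := LocallyOfFiniteType.isLocallyNoetherian At.hom
  have i2 : IsRegularLocalRing (At.left.presheaf.stalk (y₀ At)) :=
    Groth.Agent.Sga5.SmoothField.isRegularLocalRing_stalk At.hom _
  have i3 : HasInjectiveResolutions (PicF.XT A.hom At).Modules :=
    Groth.Agent.Dcoh.DerSch.hasInjectiveResolutions _
  have hcl := isClosed_unit At
  refine DimLe.dim_le (pr A At) hP (y₀ At) (fibAway hD h1 h2 h3 hP hξ) hcl d ?_ g
    (unitFibre hD h1 h2 h3 hP hξ g hg.le)
  rw [Groth.Agent.S0354.result k At (y₀ At) hcl, hd]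

/-- `dim A ≤ dim Aᵗ`. -/
theorem le₂ {P : (PicF.XT A.hom At).Modules} (hP : PicF.IsInvertible P) (hξ : ξ = mk P hP) (g d : ℕ)
    (hg : topologicalKrullDim A.left = g) (hd : topologicalKrullDim At.left = d) : g ≤ d := by
  by_contra hlt
  rw [not_le] at hlt
  have i1 : IsLocallyNoetherian A.left := LocallyOfFiniteType.isLocallyNoetherian A.hom
  have i3 : HasInjectiveResolutions (PicF.XT A.hom At).Modules :=
    Groth.Agent.Dcoh.DerSch.hasInjectiveResolutions _
  have hcoh := Groth.Agent.S2329.isCoh_of_isInvertible hP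
  have hfl := Grpsch.CubeClosed.isFlatOver_of_isInvertible (p₁ A At) hP
  obtain ⟨Z, hZ, hcl, hloc⟩ := exists_finite hD h1 h2 h3 hP hξ
  have hr0 : ∀ y, y ∉ Z → ∀ p, CohIII.fiberRank (p₁ A At) P p y = 0 := by
    intro y hy p
    obtain ⟨W, hW, hyW, hac⟩ := hloc hy
    obtain ⟨x⟩ : Nonempty (Spec (A.left.residueField y)) := inferInstance
    have h4 := K512.FibAcyc.fibre_of_acycOver (p₁ A At) P hcoh hfl (A.left.fromSpecResidueField y) _ _
      (IsPullback.of_hasPullback (p₁ A At) (A.left.fromSpecResidueField y)) x W hW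
      (Set.mem_of_eq_of_mem (Scheme.fromSpecResidueField_apply y x) hyW) hac p
    have h5 : Subsingleton (CohIII.fiberH (p₁ A At) P y p) := h4
    exact Module.finrank_zero_of_subsingleton
  have hr1 : ∀ y p, d < p → CohIII.fiberRank (p₁ A At) P p y = 0 := by
    intro y p hp
    have h4 := van_of_lt hP d hd (IsPullback.of_hasPullback (p₁ A At) (A.left.fromSpecResidueField y)) p hp
    have h5 : Subsingleton (CohIII.fiberH (p₁ A At) P y p) := h4
    exact Module.finrank_zero_of_subsingleton
  have hR : ∀ p, IsZero ((Coh.Rpush (p₁ A At) p).obj P) := by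
    intro p
    rcases lt_or_ge d p with hp | hp
    · exact K524.FinSupp.isZero_Rpush_of_fiberRank _ P hcoh hfl p fun y => hr1 y p hp
    · refine K524.FinSupp.isZero_Rpush _ P hcoh hfl g (fun y hy => ?_) p (by omega)
      obtain ⟨q, -, hq⟩ := hy
      refine K524.Key.hasReg_stalk A g hg y ?_
      by_contra hy
      refine hq (hr0 y (fun hyZ => hy (hcl y hyZ)) q)
  obtain ⟨V, hV, hy⟩ : ∃ V : A.left.Opens, IsAffineOpen V ∧ y₀ A ∈ V := by
    obtain ⟨_, ⟨V, hV, rfl⟩, hy, -⟩ := A.left.isBasis_affineOpens.exists_subset_of_mem_open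
      (Set.mem_univ (y₀ A)) isOpen_univ
    exact ⟨V, hV, hy⟩
  refine not_acyc hD h1 h2 h3 hP hξ hV hy ?_
  rw [K512.Acyc.acycOver_iff_HHon]
  intro p
  exact Ega3B.RpushAff.subsingleton_HHon_of_isZero (p₁ A At) P hcoh.1 hV p (hR p)

theorem dim_eq {P : (PicF.XT A.hom At).Modules} (hP : PicF.IsInvertible P) (hξ : ξ = mk P hP) (g : ℕ)
    (hg : topologicalKrullDim A.left = g) : topologicalKrullDim At.left = g := by
  obtain ⟨d, hd, -⟩ := Groth.Agent.Fdesc.GrpDimHom.rtd_eq At
  have e1 := le₁ hD h1 h2 h3 hP hξ g d hg hd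
  have e2 := le₂ hD h1 h2 h3 hP hξ g d hg hd
  rw [hd, le_antisymm e1 e2]

end K511.DimEq
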