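import Groth.Agent.Ega3A.TFunBasic
import Groth.Agent.Ega3A.LocalT
import Groth.Agent.S2376
import Groth.Agent.Ega4B.DepthBasic
import Mathlib.RingTheory.Regular.Category

/-!
# Bounded flat complexes with finite length homology over a local ring of depth `g`

`P` a complex of flat modules, `T_i(M) = H_i(P ⊗ M)`.

* `chain`: dividing by a regular sequence killing `T_j(N)` shifts the top homology.
* `isZero_of_lt`: `P_i = 0` for `i > 0` and all `T_i(R)` killed by a power of the maximal ideal: `T_i(R) = 0` for `i > -g`.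
* `killed`: if moreover an ideal kills `T_0(N)` for all `N` then it kills `T_{-g}(R)`.
-/

set_option autoImplicit false
universe u
open CategoryTheory CategoryTheory.Limits RingTheory.Sequence

namespace K511.KosLES

open Groth.Agent Groth.Agent.Ega3A.TFunBasic

section Gen

variable {A : Type u} [CommRing A] (P : ChainComplex (ModuleCat.{u} A) ℤ)

theorem rel (i : ℤ) : (ComplexShape.down ℤ).Rel (i + 1) i := by simp

/-- Division by one regular element. -/
theorem step (hP : ∀ i, Module.Flat A (P.X i)) (N : ModuleCat.{u} A) (x : A) (hx : IsSMulRegular N x) (j : ℤ)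
    (h1 : ∀ i, j < i → IsZero ((CohIII.TFun P i).obj N))
    (h2 : ∀ t : (CohIII.TFun P j).obj N, x • t = 0) :
    (∀ i, j + 1 < i → IsZero ((CohIII.TFun P i).obj (ModuleCat.of A (QuotSMulTop x N)))) ∧
      Nonempty ((CohIII.TFun P (j + 1)).obj (ModuleCat.of A (QuotSMulTop x N)) ≅ (CohIII.TFun P j).obj N) := by
  have hS : (N.smulShortComplex x).ShortExact := hx.smulShortComplex_shortExact
  constructor
  · intro i hi
    have e3 := T_exact₃ P hP hS i (i - 1) (by simp)
    refine e3.isZero_of_both_zeros ?_ ?_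
    · exact (h1 i (by omega)).eq_of_src _ _
    · exact (h1 (i - 1) (by omega)).eq_of_tgt _ _
  · have e3 := T_exact₃ P hP hS (j + 1) j (rel j)
    have e1 := T_exact₁ P hP hS (j + 1) j (rel j)
    have m : Mono (δT P hP hS (j + 1) j (rel j)) :=
      e3.mono_g ((h1 (j + 1) (by omega)).eq_of_src _ _)
    have hz : (CohIII.TFun P j).map (N.smulShortComplex x).f = 0 := by
      refine ((CohIII.TFun P j).map_smul x (𝟙 N)).trans ?_
      rw [(CohIII.TFun P j).map_id]
      ext t
      exact h2 t
    have e : Epi (δT P hP hS (j + 1) j (rel j)) := e1.epi_f hz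
    have := isIso_of_mono_of_epi (δT P hP hS (j + 1) j (rel j))
    exact ⟨@asIso _ _ _ _ (δT P hP hS (j + 1) j (rel j)) this⟩

/-- Division by a regular sequence. -/
theorem chain (hP : ∀ i, Module.Flat A (P.X i)) (rs : List A) : ∀ (N : ModuleCat.{u} A) (j : ℤ),
    IsWeaklyRegular N rs → (∀ i, j < i → IsZero ((CohIII.TFun P i).obj N)) →
    (∀ x ∈ rs, ∀ t : (CohIII.TFun P j).obj N, x • t = 0) →
    ∃ N' : ModuleCat.{u} A, (∀ i, j + rs.length < i → IsZero ((CohIII.TFun P i).obj N')) ∧
      Nonempty ((CohIII.TFun P (j + rs.length)).obj N' ≅ (CohIII.TFun P j).obj N) := by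
  induction rs with
  | nil =>
    intro N j _ h1 _
    refine ⟨N, fun i hi => h1 i (by simpa using hi), ?_⟩
    simp only [List.length_nil, Nat.cast_zero, add_zero]
    exact ⟨Iso.refl _⟩
  | cons x rs ih =>
    intro N j hreg h1 h2
    rw [isWeaklyRegular_cons_iff] at hreg
    obtain ⟨s1, ⟨e⟩⟩ := step P hP N x hreg.1 j h1 (h2 x List.mem_cons_self)
    obtain ⟨N', h3, ⟨e'⟩⟩ := ih (ModuleCat.of A (QuotSMulTop x N)) (j + 1) hreg.2 s1 (by
      intro y hy t
      have h3 := h2 y (List.mem_cons_of_mem x hy) (e.hom.hom t)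
      have h4 : e.hom.hom (y • t) = 0 := by rw [map_smul, h3]
      have h5 := congrArg e.inv.hom h4
      rw [map_zero] at h5
      rw [← h5]
      exact (congr($(e.hom_inv_id).hom (y • t))).symm)
    have hl : j + ((x :: rs).length : ℤ) = j + 1 + rs.length := by
      rw [List.length_cons, Nat.cast_add, Nat.cast_one]
      ring
    rw [hl]
    exact ⟨N', h3, ⟨e' ≪≫ e⟩⟩

end Gen

section Local

variable {R : Type u} [CommRing R] [IsLocalRing R] [IsNoetherianRing R]

/-- Regular sequences in powers of the maximal ideal. -/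
theorem exists_regular {g : ℕ} (hg : (g : ℕ∞) ≤ LocCoh.depth R R) (n : ℕ) :
    ∃ rs : List R, rs.length = g ∧ (∀ r ∈ rs, r ∈ IsLocalRing.maximalIdeal R ^ n) ∧ IsWeaklyRegular R rs := by
  rcases Nat.eq_zero_or_pos n with rfl | hn
  · obtain ⟨rs, h1, -, h3⟩ := (Ega4B.DepthBasic.natCast_le_idealDepth_iff
      Ega4B.DepthBasic.smul_top_ne_top_of_nontrivial g).1 hg
    exact ⟨rs, h1, by simp, h3⟩
  have h0 : IsLocalRing.maximalIdeal R • (⊤ : Submodule R R) ≠ ⊤ :=
    Ega4B.DepthBasic.smul_top_ne_top_of_nontrivial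
  have hle : IsLocalRing.maximalIdeal R ^ n ≤ IsLocalRing.maximalIdeal R := Ideal.pow_le_self hn.ne'
  have h0' : (IsLocalRing.maximalIdeal R ^ n) • (⊤ : Submodule R R) ≠ ⊤ := fun h =>
    h0 (top_le_iff.mp (h.ge.trans (Submodule.smul_mono_left hle)))
  have hs1 : Module.support R (IsLocalRing.ResidueField R) =
      PrimeSpectrum.zeroLocus (IsLocalRing.maximalIdeal R : Set R) :=
    Ega4B.DepthBasic.support_quotient (IsLocalRing.maximalIdeal R)
  have hs2 : Module.support R (IsLocalRing.ResidueField R) =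
      PrimeSpectrum.zeroLocus ((IsLocalRing.maximalIdeal R ^ n : Ideal R) : Set R) := by
    rw [hs1, ← PrimeSpectrum.zeroLocus_radical, ← PrimeSpectrum.zeroLocus_radical (IsLocalRing.maximalIdeal R ^ n),
      Ideal.radical_pow _ hn.ne']
  have h2 := (Ega4B.DepthBasic.natCast_le_idealDepth_iff_ext' (IsLocalRing.maximalIdeal R) R h0
    (IsLocalRing.ResidueField R) hs1 g).1 hg
  exact (Ega4B.DepthBasic.natCast_le_idealDepth_iff h0' g).1
    ((Ega4B.DepthBasic.natCast_le_idealDepth_iff_ext' (IsLocalRing.maximalIdeal R ^ n) R h0'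
      (IsLocalRing.ResidueField R) hs2 g).2 h2)

end Local

end K511.KosLES
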