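import Groth.Agent.AbVar.K511.KosLES
import Groth.Agent.Ega3B.FibreRank
import Groth.Agent.Ega3B.VanishFibre
import Groth.Agent.Ega3A.BcHomology
import Groth.Agent.S0559
import Mathlib.RingTheory.LocalRing.Module

/-!
# Complexes over a regular local ring whose fibres are acyclic outside the closed point

`P` a bounded complex of finite flat modules over a regular local ring `R` of dimension `g`, in degrees `≤ 0`,
with `P ⊗ κ(q)` acyclic for `q` different from the closed point and `H_0(P ⊗ k)` of dimension one.
-/

set_option autoImplicit false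
universe u
open CategoryTheory CategoryTheory.Limits RingTheory.Sequence Opposite
open scoped TensorProduct

namespace K511.KosLocal

open Groth.Agent Groth.Agent.Ega3A.TFunBasic K511.KosLES

section Fibre

variable {A : Type u} [CommRing A] (P : ChainComplex (ModuleCat.{u} A) ℤ) (i : ℤ)

theorem exists_fraction (x : PrimeSpectrum A) (r : x.asIdeal.ResidueField) :
    ∃ a s : A, algebraMap A x.asIdeal.ResidueField s ≠ 0 ∧
      algebraMap A x.asIdeal.ResidueField s * r = algebraMap A x.asIdeal.ResidueField a := by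
  obtain ⟨r, rfl⟩ := IsLocalRing.residue_surjective r
  obtain ⟨⟨a, s⟩, h⟩ := IsLocalization.surj x.asIdeal.primeCompl r
  refine ⟨a, s.1, ?_, ?_⟩
  · have h1 : IsUnit (algebraMap A (Localization.AtPrime x.asIdeal) s.1) :=
      IsLocalization.map_units _ s
    exact (h1.map (IsLocalRing.residue _)).ne_zero
  · have h2 := congrArg (IsLocalRing.residue _) h
    rw [map_mul, mul_comm] at h2
    exact h2

/-- The coyoneda isomorphism evaluated, additively. -/
noncomputable def evEquiv {Q : ModuleCat.{u} A}
    (e : CohIII.TFun P i ≅ (linearCoyoneda A (ModuleCat.{u} A)).obj (op Q)) (M : ModuleCat.{u} A) :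
    (Q →ₗ[A] M) ≃ₗ[A] (CohIII.TFun P i).obj M :=
  (ModuleCat.homLinearEquiv (S := A) (M := Q) (N := M)).symm.trans (e.app M).toLinearEquiv.symm

theorem evEquiv_map {Q : ModuleCat.{u} A}
    (e : CohIII.TFun P i ≅ (linearCoyoneda A (ModuleCat.{u} A)).obj (op Q)) {M N : ModuleCat.{u} A} (f : M ⟶ N)
    (w : Q →ₗ[A] M) : ((CohIII.TFun P i).map f).hom (evEquiv P i e M w) = evEquiv P i e N (f.hom ∘ₗ w) := by
  have h := congr($(e.inv.naturality f).hom (ModuleCat.ofHom w))
  exact h.symm

theorem finrank_tensor {Q : ModuleCat.{u} A} [Module.Finite A (P.X i)]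
    (e : CohIII.TFun P i ≅ (linearCoyoneda A (ModuleCat.{u} A)).obj (op Q)) (x : PrimeSpectrum A) :
    Module.Finite x.asIdeal.ResidueField (Q →ₗ[A] x.asIdeal.ResidueField) ∧
      Module.finrank x.asIdeal.ResidueField (Q →ₗ[A] x.asIdeal.ResidueField) = CohIII.dRank P i x := by
  refine Ega3B.FibreRank.finrank_eq_dRank P i x (algebraMap A x.asIdeal.ResidueField) (RingEquiv.refl _)
    (fun _ => rfl) (exists_fraction x) (evEquiv P i e (ModuleCat.of A x.asIdeal.ResidueField)).toAddEquiv ?_
  intro a w
  refine Eq.trans ?_ (evEquiv_map P i e (a • 𝟙 (ModuleCat.of A x.asIdeal.ResidueField)) w).symm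
  change evEquiv P i e _ _ = _
  congr 1
  ext q
  change algebraMap A x.asIdeal.ResidueField a * w q = a • w q
  rw [Algebra.smul_def]

end Fibre

end K511.KosLocal
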