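import Groth.Agent.S0786
import Groth.Agent.S0938
import Groth.Agent.Ega2.QCohLocal
import Groth.Agent.AbVar.K526.SpecK
import Groth.Agent.AbVar.K511.UnitPt

/-!
# Recognition of the skyscraper module at a rational point
-/

set_option autoImplicit false
universe u

open CategoryTheory CategoryTheory.Limits AlgebraicGeometry Opposite TopologicalSpace IsLocalRing

namespace K511.Sky

open Groth.Agent

section Alg

/-- Rank one. -/
theorem eq_one {C K : Type*} [CommRing C] [Field K] (τ : C →+* K) (hτ : Function.Surjective τ) (I : Ideal C)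
    (hI : I = RingHom.ker τ) (n : ℕ) (ψ : (Fin n → K) ≃+ (C ⧸ I)) (hψ : ∀ (c : C) (v : Fin n → K),
      ψ (τ c • v) = c • ψ v) : n = 1 := by
  subst hI
  let ε : (C ⧸ RingHom.ker τ) ≃+* K := RingHom.quotientKerEquivOfSurjective hτ
  have hε : ∀ (c : C) (x : C ⧸ RingHom.ker τ), ε (c • x) = τ c * ε x := by
    intro c x
    have h1 : c • x = Ideal.Quotient.mk (RingHom.ker τ) c * x := Algebra.smul_def c x
    rw [h1, map_mul]
    rfl
  let θ : (Fin n → K) ≃ₗ[K] K :=
    { ψ.trans ε.toAddEquiv with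
      map_smul' := by
        intro a v
        obtain ⟨c, rfl⟩ := hτ a
        change ε (ψ (τ c • v)) = τ c * ε (ψ v)
        rw [hψ, hε] }
  have h2 := θ.finrank_eq
  rwa [Module.finrank_fin_fun, Module.finrank_self] at h2

end Alg

section Sch

variable {k : Type u} [Field k] {X : Scheme.{u}} (e : Spec (CommRingCat.of k) ⟶ X)

theorem preimage_eq_top {V : X.Opens} (h : UnitPt.pt e ∈ V) : e ⁻¹ᵁ V = ⊤ := by
  ext z
  simp only [Opens.coe_top, Set.mem_univ, iff_true]
  have h1 : z = closedPoint k := Subsingleton.elim (α := PrimeSpectrum k) _ _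
  rw [h1]
  exact h

theorem isField_of_eq_top {U : (Spec (CommRingCat.of k)).Opens} (h : U = ⊤) :
    IsField Γ(Spec (CommRingCat.of k), U) := by
  subst h
  exact MulEquiv.isField (Field.toIsField k) (Scheme.ΓSpecIso (CommRingCat.of k)).commRingCatIsoToRingEquiv.toMulEquiv

/-- The ideal of the point. -/
theorem mem_primeIdealOf_iff {V : X.Opens} (hV : IsAffineOpen V) (hy : UnitPt.pt e ∈ V) (a : Γ(X, V)) :
    a ∈ (hV.primeIdealOf ⟨UnitPt.pt e, hy⟩).asIdeal ↔ (e.app V).hom a = 0 := by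
  have h1 : hV.primeIdealOf ⟨UnitPt.pt e, hy⟩ ∈ PrimeSpectrum.basicOpen a ↔ UnitPt.pt e ∈ X.basicOpen a := by
    have h2 : hV.primeIdealOf ⟨UnitPt.pt e, hy⟩ ∈ hV.fromSpec ⁻¹ᵁ X.basicOpen a ↔
        hV.primeIdealOf ⟨UnitPt.pt e, hy⟩ ∈ PrimeSpectrum.basicOpen a := by
      rw [hV.fromSpec_preimage_basicOpen]
      exact Iff.rfl
    rw [← h2]
    change hV.fromSpec (hV.primeIdealOf ⟨UnitPt.pt e, hy⟩) ∈ X.basicOpen a ↔ _
    rw [hV.fromSpec_primeIdealOf]
  have h3 : UnitPt.pt e ∈ X.basicOpen a ↔ closedPoint k ∈ (Spec (CommRingCat.of k)).basicOpen ((e.app V).hom a) := by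
    have h4 := Scheme.preimage_basicOpen e a
    have h5 : UnitPt.pt e ∈ X.basicOpen a ↔ closedPoint k ∈ e ⁻¹ᵁ X.basicOpen a := Iff.rfl
    rw [h5, h4]
  have h6 : (closedPoint k ∈ (Spec (CommRingCat.of k)).basicOpen ((e.app V).hom a)) ↔ (e.app V).hom a ≠ 0 := by
    constructor
    · intro h h0
      rw [h0, Scheme.basicOpen_zero] at h
      exact h
    · intro h
      have h7 : IsUnit ((e.app V).hom a) := by
        let _ := (isField_of_eq_top (preimage_eq_top e hy)).toField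
        exact isUnit_iff_ne_zero.2 h
      rw [Scheme.basicOpen_of_isUnit _ h7]
      exact hy
  rw [← not_iff_not, ← ne_eq ((e.app V).hom a), ← h6, ← h3, ← h1]
  rfl

theorem ker_ideal [QuasiCompact e] {V : X.affineOpens} (hy : UnitPt.pt e ∈ V.1) :
    e.ker.ideal V = (V.2.primeIdealOf ⟨UnitPt.pt e, hy⟩).asIdeal := by
  rw [Scheme.Hom.ker_apply]
  ext a
  rw [mem_primeIdealOf_iff, RingHom.mem_ker]

variable [IsClosedImmersion e] [IsLocallyNoetherian X] (M : X.Modules) (hM : Coh.IsCoh M)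

include hM in
/-- Coherent modules killed by the ideal of the point. -/
theorem exists_iso (hk : ClSub.KilledByIdeal e.ker M) :
    ∃ n : ℕ, Nonempty (M ≅ (Scheme.Modules.pushforward e).obj (FlatMod.freeMod (Spec (CommRingCat.of k)) n)) := by
  obtain ⟨G, hG, ⟨i⟩⟩ := Groth.Agent.S0786.result e M hM hk
  have : G.IsQuasicoherent := hG.1
  obtain ⟨n, ⟨j⟩⟩ := K526.PullM.exists_iso_free (R := CommRingCat.of k) (Field.toIsField k) G hG.2
  exact ⟨n, ⟨i.symm ≪≫ (Scheme.Modules.pushforward e).mapIso j⟩⟩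

omit [IsClosedImmersion e] [IsLocallyNoetherian X] in
theorem nonempty_one {n : ℕ} (hn : n = 1)
    (h : Nonempty (M ≅ (Scheme.Modules.pushforward e).obj (FlatMod.freeMod (Spec (CommRingCat.of k)) n))) :
    Nonempty (M ≅ (Coh.push e).obj (Coh.structureModule (Spec (CommRingCat.of k)))) := by
  subst hn
  obtain ⟨i⟩ := h
  exact ⟨i ≪≫ (Scheme.Modules.pushforward e).mapIso
    (Groth.Agent.Ega2.QCohLocal.freeModOneIso (Spec (CommRingCat.of k))).symm⟩

theorem nonempty_coord (Z : Scheme.{u}) (n : ℕ) (U : Z.Opens) (hU : U = ⊤) :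
    Nonempty (Γ(FlatMod.freeMod Z n, U) ≃ₗ[Γ(Z, U)] (Fin n → Γ(Z, U))) := by
  subst hU
  exact ⟨Groth.Agent.S0938.coordEquiv Z n⟩

omit [IsLocallyNoetherian X] in
/-- The rank, from the sections over an affine neighbourhood of the point. -/
theorem rank_eq_one {V : X.Opens} (hV : IsAffineOpen V) (hy : UnitPt.pt e ∈ V) (n : ℕ)
    (i : M ≅ (Scheme.Modules.pushforward e).obj (FlatMod.freeMod (Spec (CommRingCat.of k)) n))
    (f : Γ(M, V) ≃ₗ[Γ(X, V)] (Γ(X, V) ⧸ (hV.primeIdealOf ⟨UnitPt.pt e, hy⟩).asIdeal)) : n = 1 := by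
  have hU := preimage_eq_top e hy
  obtain ⟨c⟩ := nonempty_coord (Spec (CommRingCat.of k)) n _ hU
  let _ := (isField_of_eq_top hU).toField
  let j : Γ(M, V) ≃+ Γ(FlatMod.freeMod (Spec (CommRingCat.of k)) n, e ⁻¹ᵁ V) :=
    { toFun := i.hom.app V
      invFun := i.inv.app V
      left_inv := fun x => by
        change (i.hom ≫ i.inv).app V x = x
        rw [i.hom_inv_id]
        rfl
      right_inv := fun x => by
        change (i.inv ≫ i.hom).app V x = x
        rw [i.inv_hom_id]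
        rfl
      map_add' := fun x y => map_add _ x y }
  have hj : ∀ (a : Γ(X, V)) (x : Γ(M, V)), j (a • x) = (e.app V).hom a • j x := fun a x => i.hom.app_smul a x
  refine eq_one (e.app V).hom (e.app_surjective V hV) _ ?_ n (c.symm.toAddEquiv.trans (j.symm.trans f.toAddEquiv)) ?_
  · ext a
    rw [mem_primeIdealOf_iff, RingHom.mem_ker]
  · intro a v
    change f (j.symm (c.symm ((e.app V).hom a • v))) = a • f (j.symm (c.symm v))
    rw [map_smul, ← map_smul f]
    congr 1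
    apply j.injective
    rw [hj, AddEquiv.apply_symm_apply, AddEquiv.apply_symm_apply]

include hM in
/-- **Recognition of the skyscraper module.** -/
theorem nonempty_iso (h0 : ∀ V : X.Opens, IsAffineOpen V → UnitPt.pt e ∉ V → Subsingleton Γ(M, V))
    (h1 : ∀ (V : X.Opens) (hV : IsAffineOpen V) (hy : UnitPt.pt e ∈ V),
      Nonempty (Γ(M, V) ≃ₗ[Γ(X, V)] (Γ(X, V) ⧸ (hV.primeIdealOf ⟨UnitPt.pt e, hy⟩).asIdeal))) :
    Nonempty (M ≅ (Coh.push e).obj (Coh.structureModule (Spec (CommRingCat.of k)))) := by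
  have hk : ClSub.KilledByIdeal e.ker M := by
    intro U a ha m
    by_cases hy : UnitPt.pt e ∈ U.1
    · obtain ⟨f⟩ := h1 U.1 U.2 hy
      rw [ker_ideal e hy] at ha
      have h2 : f (a • (show Γ(M, U.1) from m)) = 0 := by
        rw [f.map_smul]
        obtain ⟨x, hx⟩ := Ideal.Quotient.mk_surjective (f m)
        rw [← hx]
        change Ideal.Quotient.mk _ (a * x) = 0
        exact Ideal.Quotient.eq_zero_iff_mem.2 (Ideal.mul_mem_right _ _ ha)
      exact (LinearEquiv.map_eq_zero_iff f).1 h2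
    · exact @Subsingleton.elim _ (h0 U.1 U.2 hy) _ _
  obtain ⟨n, ⟨i⟩⟩ := exists_iso e M hM hk
  obtain ⟨V, hV, hy⟩ : ∃ V : X.Opens, IsAffineOpen V ∧ UnitPt.pt e ∈ V := by
    obtain ⟨_, ⟨V, hV, rfl⟩, hy, -⟩ := X.isBasis_affineOpens.exists_subset_of_mem_open
      (Set.mem_univ (UnitPt.pt e)) isOpen_univ
    exact ⟨V, hV, hy⟩
  obtain ⟨f⟩ := h1 V hV hy
  exact nonempty_one e M (rank_eq_one e M hV hy n i f) ⟨i⟩

end Sch

end K511.Sky
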