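import Groth.Agent.AbVar.K511.DimEq
import Groth.Agent.AbVar.K511.Sky
import Groth.Agent.AbVar.K526.Leray

/-!
# The higher direct images of the Poincaré module to the dual abelian variety
-/

set_option autoImplicit false
universe u

open CategoryTheory CategoryTheory.Limits MonoidalCategory CartesianMonoidalCategory MonObj GrpObj AlgebraicGeometry
open IsLocalRing

namespace K511.PC2

open Groth.Agent Groth.Agent.Grpsch.PicGrp Groth.Agent.Grpsch.Cube Groth.Agent.Fga.RigGrp K732.Cov K732.PicZero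
  K732.RigSheaf K732.Dual K732.CubeSec K732.Transp K732.Prim K732.BC K732.Bidual K524.Kun K524.PicZeroVan K511.PFib
  K511.PSide K511.Poin2 K511.DimEq

section Total

variable (k : Type u) [Field k] {X Y : Scheme.{u}} [X.Over (Spec (CommRingCat.of k))] [Y.Over (Spec (CommRingCat.of k))]
  [IsProper (Y ↘ (Spec (CommRingCat.of k)))]
  (f : X ⟶ Y) [IsProper f] (hf : f ≫ (Y ↘ Spec (CommRingCat.of k)) = X ↘ Spec (CommRingCat.of k))
  (F : X.Modules) (hF : Coh.IsCoh F) (hfl : FlatMod.IsFlatOver f F)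

include hf hF hfl in
/-- The Leray spectral sequence when the fibres are acyclic outside a finite set of closed points. -/
theorem exists_equiv (Z : Set Y) (hZfin : Z.Finite) (hZcl : ∀ z ∈ Z, IsClosed ({z} : Set Y))
    (hZ : ∀ y p, CohIII.fiberRank f F p y ≠ 0 → y ∈ Z) (n : ℕ) :
    Nonempty (Coh.HH X F n ≃ₗ[k] Coh.HH Y ((Coh.Rpush f n).obj F) 0) := by
  have i1 : IsLocallyNoetherian Y := LocallyOfFiniteType.isLocallyNoetherian (Y ↘ (Spec (CommRingCat.of k)))
  have hZclosed : IsClosed Z := by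
    rw [← Set.biUnion_of_singleton Z]
    exact hZfin.isClosed_biUnion hZcl
  refine K526.Leray.exists_equiv_zero f k hf n F fun j q x => ?_
  have h2 := Groth.Agent.S1526.result k Y ((Coh.Rpush f j).obj F) (Groth.Agent.S0036.result f F hF j)
    (K524.FinSupp.krullDim_le_zero hZfin hZcl (K524.FinSupp.support_subset f F hF hfl j Z hZclosed
      fun y hy => hZ y j hy)) (q + 1) (by omega)
  exact h2.elim x 0

end Total

section Sky

variable (k : Type u) [Field k] {X : Scheme.{u}} [X.Over (Spec (CommRingCat.of k))]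
  (e : Spec (CommRingCat.of k) ⟶ X) (he : e ≫ (X ↘ Spec (CommRingCat.of k)) = 𝟙 _)

include he in
theorem finrank_sky (n : ℕ) : Module.finrank k (Coh.HH X ((Scheme.Modules.pushforward e).obj
    (FlatMod.freeMod (Spec (CommRingCat.of k)) n)) 0) = n := by
  let _ : (Spec (CommRingCat.of k)).Over (Spec (CommRingCat.of k)) := ⟨𝟙 _⟩
  have he' : e ≫ (X ↘ Spec (CommRingCat.of k)) = (Spec (CommRingCat.of k)) ↘ Spec (CommRingCat.of k) := he
  have h1 := (Groth.Agent.VarietyB.HHPush.zeroEquiv e k he' (FlatMod.freeMod (Spec (CommRingCat.of k)) n)).finrank_eq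
  have h2 := K526.PullM.h_fr_spec k n
  rw [K526.Cut.fr, Groth.Agent.Pic13.H11.Cls.h_mc] at h2
  exact h1.trans h2

theorem finrank_iso {M N : X.Modules} (i : M ≅ N) (n : ℕ) :
    Module.finrank k (Coh.HH X M n) = Module.finrank k (Coh.HH X N n) :=
  (Groth.Agent.Fga.PicMon.hmapEquiv k X i n).finrank_eq

include he in
theorem finrank_sky_one : Module.finrank k (Coh.HH X ((Coh.push e).obj
    (Coh.structureModule (Spec (CommRingCat.of k)))) 0) = 1 := by
  rw [← finrank_sky k e he 1]
  exact finrank_iso k ((Scheme.Modules.pushforward e).mapIso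
    (Groth.Agent.Ega2.QCohLocal.freeModOneIso (Spec (CommRingCat.of k)))) 0

end Sky

variable {k : Type u} [Field k] {A At : Over (Spec (CommRingCat.of k))} [GrpObj A] [IsProper A.hom] [Smooth A.hom]
  [GeometricallyConnected A.hom] [GrpObj At] [IsProper At.hom] [Smooth At.hom] [GeometricallyConnected At.hom]
  {φ : ∀ T : Over (Spec (CommRingCat.of k)), PicF.Cl (PicF.XT A.hom T) → (T ⟶ At)}
  (hD : AbDual.IsDualAV Scheme.fppfPrecoverage A At φ) {ξ : Pic (PicF.XT A.hom At)}
  (h1 : ξ ∈ pz A.hom At) (h2 : ξ ∈ rg A At) (h3 : cm φ ξ = 𝟙 At)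
  {P : (PicF.XT A.hom At).Modules} (hP : PicF.IsInvertible P) (hξ : ξ = mk P hP) (g : ℕ)
  (hg : topologicalKrullDim A.left = g)

include hD h1 h2 h3 hξ

omit [Smooth At.hom] in
/-- The fibres over the points different from the unit are acyclic. -/
theorem mem_of_fiberRank (y : At.left) (p : ℕ) (hy : CohIII.fiberRank (pr A At) P p y ≠ 0) : y ∈ ({y₀ At} : Set At.left) := by
  by_contra hne
  apply hy
  have e1 : (At.left.fromSpecResidueField y) (closedPoint (At.left.residueField y)) = y :=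
    Scheme.fromSpecResidueField_apply _ _
  obtain ⟨X', j, q, H, hs⟩ := fibAway hD h1 h2 h3 hP hξ (At.left.residueField y) (At.left.fromSpecResidueField y) (by
    rw [e1]
    exact hne)
  let i := (IsPullback.of_hasPullback (pr A At) (At.left.fromSpecResidueField y)).isoIsPullback _ _ H
  have hi : i.hom ≫ j = pullback.fst (pr A At) (At.left.fromSpecResidueField y) :=
    IsPullback.isoIsPullback_hom_fst _ _ _ _
  have h4 : Van (pull j (mk P hP)) p := by
    rw [pull_mk, van_mk]
    exact hs p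
  have h5 : Van (pull (pullback.fst (pr A At) (At.left.fromSpecResidueField y)) (mk P hP)) p := by
    rw [← hi, pull_comp, van_pull_iso]
    exact h4
  rw [pull_mk, van_mk] at h5
  have h6 : Subsingleton (CohIII.fiberH (pr A At) P y p) := h5
  exact Module.finrank_zero_of_subsingleton

include hg

/-- The local statement. -/
theorem loc [HasInjectiveResolutions (PicF.XT A.hom At).Modules] (V : At.left.Opens) (hV : IsAffineOpen V)
    (hy : y₀ At ∈ V) :
    (∀ p : ℕ, p ≠ g → Subsingleton Γ((Coh.Rpush (pr A At) p).obj P, V)) ∧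
      Nonempty (Γ((Coh.Rpush (pr A At) g).obj P, V) ≃ₗ[Γ(At.left, V)]
        (Γ(At.left, V) ⧸ (hV.primeIdealOf ⟨y₀ At, hy⟩).asIdeal)) := by
  have i1 : IsLocallyNoetherian At.left := LocallyOfFiniteType.isLocallyNoetherian At.hom
  have i2 : IsRegularLocalRing (At.left.presheaf.stalk (y₀ At)) :=
    Groth.Agent.Sga5.SmoothField.isRegularLocalRing_stalk At.hom _
  have hcl := isClosed_unit At
  refine LocPush.main (pr A At) hP (y₀ At) (fibAway hD h1 h2 h3 hP hξ) hcl g ?_
    (unitFibre hD h1 h2 h3 hP hξ g hg.le) ?_ V hV hy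
  · rw [Groth.Agent.S0354.result k At (y₀ At) hcl, dim_eq hD h1 h2 h3 hP hξ g hg]
  · intro B _ _ θ n hθ hn X' j q H z s hz hs a ha
    exact geo hD h1 h2 h3 hP hξ B θ n hθ hn X' j q H z s hz hs a ha

omit hg [Smooth At.hom] in
theorem loc0 [HasInjectiveResolutions (PicF.XT A.hom At).Modules] (V : At.left.Opens) (hV : IsAffineOpen V)
    (hy : y₀ At ∉ V) (p : ℕ) : Subsingleton Γ((Coh.Rpush (pr A At) p).obj P, V) := by
  have i1 : IsLocallyNoetherian At.left := LocallyOfFiniteType.isLocallyNoetherian At.hom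
  exact LocPush.subsingleton_of_notMem (pr A At) hP (y₀ At) (fibAway hD h1 h2 h3 hP hξ) V hV hy p

/-- **`R^p p₂_* P = 0` for `p ≠ g`.** -/
theorem isZero [HasInjectiveResolutions (PicF.XT A.hom At).Modules] (p : ℕ) (hp : p ≠ g) :
    IsZero ((Coh.Rpush (pr A At) p).obj P) := by
  have hcoh := Groth.Agent.S2329.isCoh_of_isInvertible hP
  rw [Groth.Agent.Ega3B.RpushAff.isZero_iff (pr A At) P hcoh.1 p]
  intro V hV
  rw [← Groth.Agent.Ega3B.RpushAff.subsingleton_iff (pr A At) P hcoh.1 hV p]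
  by_cases hy : y₀ At ∈ V
  · exact (loc hD h1 h2 h3 hP hξ g hg V hV hy).1 p hp
  · exact loc0 hD h1 h2 h3 hP hξ V hV hy p

/-- **`R^g p₂_* P` is the skyscraper at the unit.** -/
theorem nonempty_iso [HasInjectiveResolutions (PicF.XT A.hom At).Modules] :
    Nonempty ((Coh.Rpush (pr A At) g).obj P ≅
      (Coh.push η[At].left).obj (Coh.structureModule (Spec (CommRingCat.of k)))) := by
  have hcoh := Groth.Agent.S2329.isCoh_of_isInvertible hP
  have i1 : IsLocallyNoetherian At.left := LocallyOfFiniteType.isLocallyNoetherian At.hom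
  have i2 := isClosedImmersion_unit At
  exact Sky.nonempty_iso η[At].left _ (Groth.Agent.S0036.result (pr A At) P hcoh g)
    (fun V hV hy => loc0 hD h1 h2 h3 hP hξ V hV hy g)
    (fun V hV hy => (loc hD h1 h2 h3 hP hξ g hg V hV hy).2)

/-- **`H^g(A × Aᵗ, P)` is one-dimensional.** -/
theorem finrank_eq_one : @Module.finrank k (Coh.HH (PicF.XT A.hom At) P g) _ _
    (@Coh.moduleOver k _ (PicF.XT A.hom At) ⟨pullback.fst A.hom At.hom ≫ A.hom⟩ P g) = 1 := by
  have hcoh := Groth.Agent.S2329.isCoh_of_isInvertible hP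
  have hfl := Grpsch.CubeClosed.isFlatOver_of_isInvertible (pr A At) hP
  let _ : (PicF.XT A.hom At).Over (Spec (CommRingCat.of k)) := ⟨pullback.fst A.hom At.hom ≫ A.hom⟩
  let _ : At.left.Over (Spec (CommRingCat.of k)) := ⟨At.hom⟩
  have i1 : IsProper (At.left ↘ (Spec (CommRingCat.of k))) := ‹IsProper At.hom›
  have i3 : HasInjectiveResolutions (PicF.XT A.hom At).Modules :=
    Groth.Agent.Dcoh.DerSch.hasInjectiveResolutions _
  have hf : pr A At ≫ (At.left ↘ Spec (CommRingCat.of k)) = (PicF.XT A.hom At) ↘ Spec (CommRingCat.of k) :=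
    pullback.condition.symm
  have hcl := isClosed_unit At
  obtain ⟨E⟩ := exists_equiv k (pr A At) hf P hcoh hfl {y₀ At} (Set.finite_singleton _)
    (fun z hz => by rw [Set.mem_singleton_iff.1 hz]; exact hcl)
    (fun y p hy => mem_of_fiberRank hD h1 h2 h3 hP hξ y p hy) g
  obtain ⟨i⟩ := nonempty_iso hD h1 h2 h3 hP hξ g hg
  have e1 := E.finrank_eq
  rw [finrank_iso k i 0, finrank_sky_one k η[At].left (Over.w η[At])] at e1
  exact e1

/-- **`H^n(A × Aᵗ, P) = 0` for `n ≠ g`.** -/
theorem subsingleton_HH (n : ℕ) (hn : n ≠ g) : Subsingleton (Coh.HH (PicF.XT A.hom At) P n) := by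
  have hcoh := Groth.Agent.S2329.isCoh_of_isInvertible hP
  have hfl := Grpsch.CubeClosed.isFlatOver_of_isInvertible (pr A At) hP
  let _ : (PicF.XT A.hom At).Over (Spec (CommRingCat.of k)) := ⟨pullback.fst A.hom At.hom ≫ A.hom⟩
  let _ : At.left.Over (Spec (CommRingCat.of k)) := ⟨At.hom⟩
  have i1 : IsProper (At.left ↘ (Spec (CommRingCat.of k))) := ‹IsProper At.hom›
  have i3 : HasInjectiveResolutions (PicF.XT A.hom At).Modules :=
    Groth.Agent.Dcoh.DerSch.hasInjectiveResolutions _
  have hf : pr A At ≫ (At.left ↘ Spec (CommRingCat.of k)) = (PicF.XT A.hom At) ↘ Spec (CommRingCat.of k) :=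
    pullback.condition.symm
  have hcl := isClosed_unit At
  obtain ⟨E⟩ := exists_equiv k (pr A At) hf P hcoh hfl {y₀ At} (Set.finite_singleton _)
    (fun z hz => by rw [Set.mem_singleton_iff.1 hz]; exact hcl)
    (fun y p hy => mem_of_fiberRank hD h1 h2 h3 hP hξ y p hy) n
  have h4 : Subsingleton (Coh.HH At.left ((Coh.Rpush (pr A At) n).obj P) 0) :=
    Groth.Agent.Fga.IntNum0.HH_subsingleton_of_isZero (isZero hD h1 h2 h3 hP hξ g hg n hn) 0
  exact E.toEquiv.subsingleton

end K511.PC2
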