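import Groth.Agent.AbDual.K732.AV
import Groth.Agent.AbDual.K732.BC
import Groth.Agent.AbVar.K524.PicZeroVan

/-!
# Fibres of the Poincaré class

`k` a field, `ξ` the Poincaré class on `A × Aᵗ`, `t : Spec Ω ⟶ Aᵗ` a point with values in a field. The class `ξ_t` on `A_Ω`
is primitive, trivial if and only if `t` is the unit, and has no cohomology if it is not trivial.
-/

set_option autoImplicit false
universe u

open CategoryTheory CategoryTheory.Limits MonoidalCategory CartesianMonoidalCategory MonObj GrpObj AlgebraicGeometry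

namespace K511.PFib

open Groth.Agent Groth.Agent.Grpsch.PicGrp Groth.Agent.Grpsch.Cube Groth.Agent.Fga.RigGrp K732.Cov K732.PicZero
  K732.RigSheaf K732.Dual K732.CubeSec K732.Transp K732.Prim K732.BC K524.Kun K524.PicZeroVan

section Up

variable {S S' : Scheme.{u}} {k : S' ⟶ S} {A : Over S}

/-- Pulling back a class on the fibre along a point. -/
theorem pull_up {U : Over S'} (a : dn k U ⟶ A) (c : Pic (PicF.XT A.hom (Over.mk k))) :
    pull (up a).left c = ev a (Over.homMk U.hom rfl : dn k U ⟶ Over.mk k) c := by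
  rw [ev_def]
  have h : (up a).left = (lift a (Over.homMk U.hom rfl : dn k U ⟶ Over.mk k)).left := by
    apply pullback.hom_ext
    · refine (up_left_fst a).trans ?_
      exact (congrArg CommaMorphism.left (lift_fst a (Over.homMk U.hom rfl : dn k U ⟶ Over.mk k))).symm
    · refine (up_left_snd a).trans ?_
      exact (congrArg CommaMorphism.left (lift_snd a (Over.homMk U.hom rfl : dn k U ⟶ Over.mk k))).symm
  exact congrArg (fun f => pull f c) h

end Up

variable {k : Type u} [Field k] {A At : Over (Spec (CommRingCat.of k))} [GrpObj A] [IsProper A.hom] [Smooth A.hom]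
  [GeometricallyConnected A.hom] [GrpObj At] [LocallyOfFiniteType At.hom] [GeometricallyConnected At.hom]
  {φ : ∀ T : Over (Spec (CommRingCat.of k)), PicF.Cl (PicF.XT A.hom T) → (T ⟶ At)}
  (hD : AbDual.IsDualAV Scheme.fppfPrecoverage A At φ) {ξ : Pic (PicF.XT A.hom At)}
  (h1 : ξ ∈ pz A.hom At) (h2 : ξ ∈ rg A At) (h3 : cm φ ξ = 𝟙 At)

/-- The class on the fibre. -/
noncomputable def fc (ξ : Pic (PicF.XT A.hom At)) {S' : Scheme.{u}} (s : S' ⟶ Spec (CommRingCat.of k))
    (t : Over.mk s ⟶ At) : Pic (Red.bc s A).left :=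
  pull (PicF.XTmap A.hom t) ξ

include hD h1 h2 h3

/-- The class on the fibre is primitive. -/
theorem add {Ω : Type u} [Field Ω] (s : Spec (CommRingCat.of Ω) ⟶ Spec (CommRingCat.of k)) (t : Over.mk s ⟶ At) :
    K524.PicZeroVan.Add (A := Red.bc s A) (fc ξ s t) := by
  have := K732.AV.geomInt A
  obtain ⟨a, ha⟩ := exists_up (fst (Red.bc s A) (Red.bc s A))
  obtain ⟨b, hb⟩ := exists_up (snd (Red.bc s A) (Red.bc s A))
  have h4 : pull (PicF.XTmap A.hom t) ξ ∈ pz A.hom (Over.mk s) := pull_XTmap_mem _ h1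
  have h5 : pull (PicF.XTmap A.hom t) ξ ∈ rg A (Over.mk s) := pull_mem _ h2
  have h6 : μ[Red.bc s A] = up (a * b) := by rw [mu_eq, ← ha, ← hb, ← up_mul]
  unfold K524.PicZeroVan.Add
  rw [h6, ← ha, ← hb]
  have e1 := pull_up (a * b) (pull (PicF.XTmap A.hom t) ξ)
  have e2 := pull_up a (pull (PicF.XTmap A.hom t) ξ)
  have e3 := pull_up b (pull (PicF.XTmap A.hom t) ξ)
  rw [prim hD h4 h5, ← e2, ← e3] at e1
  exact e1

omit [GrpObj A] [IsProper A.hom] [Smooth A.hom] [GeometricallyConnected A.hom] [LocallyOfFiniteType At.hom]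
  [GeometricallyConnected At.hom] h2 in
/-- The class on the fibre is trivial only at the unit. -/
theorem eq_one {T : Over (Spec (CommRingCat.of k))} (t : T ⟶ At) (h : pull (PicF.XTmap A.hom t) ξ = 1) : t = 1 := by
  have h4 := cm_pull hD t h1
  rw [h, cm_one hD, h3, Category.comp_id] at h4
  exact h4.symm

/-- No cohomology on the nontrivial fibres. -/
theorem van {Ω : Type u} [Field Ω] (s : Spec (CommRingCat.of Ω) ⟶ Spec (CommRingCat.of k)) (t : Over.mk s ⟶ At)
    (ht : t ≠ 1) (n : ℕ) : Van (pull (PicF.XTmap A.hom t) ξ) n := by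
  have := K732.AV.geomInt A
  have h4 : K524.PicZeroVan.Add (A := Red.bc s A) (fc ξ s t) := add hD h1 h2 h3 s t
  have i1 : IsProper (Red.bc s A).hom := inferInstanceAs (IsProper (pullback.snd A.hom s))
  have i2 : GeometricallyIntegral (Red.bc s A).hom :=
    inferInstanceAs (GeometricallyIntegral (pullback.snd A.hom s))
  exact K524.PicZeroVan.van h4 (fun h => ht (eq_one hD h1 h3 t h)) n

end K511.PFib
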