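import Groth.Agent.AbVar.K511.PhiFin
import Groth.Agent.AbVar.K511.PFib
import Groth.Agent.AbVar.K512.PoincId
import Groth.Agent.AbVar.K512.FinSupp
import Groth.Agent.AbVar.K524.Key
import Groth.Agent.Pic13.H703.KPoints
import Groth.Agent.FBase.K106.Dim
import Groth.Agent.AlgSp.K639.Dim
import Groth.Agent.S1536

/-!
# The fibres of the Poincaré module over the first factor

`k` a field, `P` the Poincaré module on `A × Aᵗ`, `p₁ : A × Aᵗ ⟶ A` the projection.
* `dich`: over a field-valued point of `A` the class is trivial or acyclic;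
* `exists_finite`: it is acyclic outside a finite set of closed points of `A`.
-/

set_option autoImplicit false
universe u

open CategoryTheory CategoryTheory.Limits MonoidalCategory CartesianMonoidalCategory MonObj GrpObj AlgebraicGeometry
open IsLocalRing

namespace K511.PSide

open Groth.Agent Groth.Agent.Grpsch.PicGrp Groth.Agent.Grpsch.Cube Groth.Agent.Fga.RigGrp K732.Cov K732.PicZero
  K732.RigSheaf K732.Dual K732.CubeSec K732.Transp K732.Prim K732.BC K732.Bidual K524.Kun K524.PicZeroVan K511.PFib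

section Square

variable {S : Scheme.{u}} (A At : Over S)

/-- The projection `A × Aᵗ ⟶ A`. -/
noncomputable abbrev p₁ : PicF.XT A.hom At ⟶ A.left := pullback.fst A.hom At.hom

/-- The exchange of factors. -/
noncomputable abbrev σ : PicF.XT At.hom A ⟶ PicF.XT A.hom At := (pullbackSymmetry At.hom A.hom).hom

variable {A At}

/-- The morphism over a point of `A`. -/
noncomputable abbrev jj {T : Over S} (t : T ⟶ A) : PicF.XT At.hom T ⟶ PicF.XT A.hom At :=
  PicF.XTmap At.hom t ≫ σ A At

theorem sq {T : Over S} (t : T ⟶ A) : IsPullback (jj (At := At) t) (PicF.XTproj At.hom T) (p₁ A At) t.left := by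
  have h1 : IsPullback (PicF.XTmap At.hom t) (PicF.XTproj At.hom T) (PicF.XTproj At.hom A) t.left :=
    isPullback_XTmap t
  have h2 : IsPullback (σ A At) (PicF.XTproj At.hom A) (p₁ A At) (𝟙 A.left) := by
    refine IsPullback.of_horiz_isIso ⟨?_⟩
    rw [Category.comp_id]
    exact pullbackSymmetry_hom_comp_fst _ _
  have h3 := h1.paste_horiz h2
  rw [Category.comp_id] at h3
  exact h3

theorem pull_jj {T : Over S} (t : T ⟶ A) (ξ : Pic (PicF.XT A.hom At)) :
    pull (jj t) ξ = pull (PicF.XTmap At.hom t) (sw A At ξ) := by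
  rw [sw, pull_comp]

theorem ev_pull_jj {T W : Over S} (t : T ⟶ A) (y : W ⟶ At) (w : W ⟶ T) (ξ : Pic (PicF.XT A.hom At)) :
    ev y w (pull (jj t) ξ) = ev (w ≫ t) y ξ := by
  rw [pull_jj, ev_XTmap, ev_sw]

end Square

variable {k : Type u} [Field k] {A At : Over (Spec (CommRingCat.of k))} [GrpObj A] [IsProper A.hom] [Smooth A.hom]
  [GeometricallyConnected A.hom] [GrpObj At] [IsProper At.hom] [Smooth At.hom] [GeometricallyConnected At.hom]
  {φ : ∀ T : Over (Spec (CommRingCat.of k)), PicF.Cl (PicF.XT A.hom T) → (T ⟶ At)}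
  (hD : AbDual.IsDualAV Scheme.fppfPrecoverage A At φ) {ξ : Pic (PicF.XT A.hom At)}
  (h1 : ξ ∈ pz A.hom At) (h2 : ξ ∈ rg A At) (h3 : cm φ ξ = 𝟙 At)

include hD h1 h2 h3

omit [IsProper At.hom] [Smooth At.hom] [GeometricallyConnected At.hom] in
/-- The class on the fibre is primitive. -/
theorem add {Ω : Type u} [Field Ω] (s : Spec (CommRingCat.of Ω) ⟶ Spec (CommRingCat.of k)) (t : Over.mk s ⟶ A) :
    K524.PicZeroVan.Add (A := Red.bc s At) (pull (jj t) ξ : Pic (Red.bc s At).left) := by
  have := K732.AV.geomInt A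
  obtain ⟨a, ha⟩ := exists_up (fst (Red.bc s At) (Red.bc s At))
  obtain ⟨b, hb⟩ := exists_up (snd (Red.bc s At) (Red.bc s At))
  have h6 : μ[Red.bc s At] = up (a * b) := by rw [mu_eq, ← ha, ← hb, ← up_mul]
  unfold K524.PicZeroVan.Add
  rw [h6, ← ha, ← hb]
  have e1 := pull_up (a * b) (pull (jj t) ξ)
  have e2 := pull_up a (pull (jj t) ξ)
  have e3 := pull_up b (pull (jj t) ξ)
  rw [ev_pull_jj] at e1 e2 e3
  rw [K512.PoincId.ev_mul_right hD h1 h2 h3, ← e2, ← e3] at e1
  exact e1

/-- Over a point with values in a field the class is trivial or acyclic. -/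
theorem van {Ω : Type u} [Field Ω] (s : Spec (CommRingCat.of Ω) ⟶ Spec (CommRingCat.of k)) (t : Over.mk s ⟶ A)
    (ht : pull (jj t) ξ ≠ 1) (n : ℕ) : Van (pull (jj t) ξ) n := by
  have := K732.AV.geomInt At
  have i1 : IsProper (Red.bc s At).hom := inferInstanceAs (IsProper (pullback.snd At.hom s))
  have i2 : GeometricallyIntegral (Red.bc s At).hom :=
    inferInstanceAs (GeometricallyIntegral (pullback.snd At.hom s))
  exact K524.PicZeroVan.van (add hD h1 h2 h3 s t) ht n

/-- Over a point with values in a field the class is trivial or acyclic. -/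
theorem dich {K : Type u} [Field K] {X' : Scheme.{u}} {j : X' ⟶ PicF.XT A.hom At}
    {q : X' ⟶ Spec (CommRingCat.of K)} {t : Spec (CommRingCat.of K) ⟶ A.left} (H : IsPullback j q (p₁ A At) t) :
    pull j ξ = 1 ∨ ∀ n, Van (pull j ξ) n := by
  let T : Over (Spec (CommRingCat.of k)) := Over.mk (t ≫ A.hom)
  let tt : T ⟶ A := Over.homMk t rfl
  have H' := sq (At := At) tt
  let i : X' ≅ PicF.XT At.hom T := H.isoIsPullback _ _ H'
  have hi : i.hom ≫ jj tt = j := H.isoIsPullback_hom_fst _ _ _
  rw [← hi, pull_comp]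
  by_cases h : pull (jj tt) ξ = 1
  · left
    rw [h, map_one]
  · right
    intro n
    rw [van_pull_iso]
    exact van hD h1 h2 h3 (t ≫ A.hom) tt h n

omit [IsProper At.hom] [Smooth At.hom] [GeometricallyConnected At.hom] in
/-- The finitely many geometric points over which the class is trivial. -/
theorem finite_pts {K : Type u} [Field K] [IsAlgClosed K] (s : Spec (CommRingCat.of K) ⟶ Spec (CommRingCat.of k)) :
    Set.Finite {t : Over.mk s ⟶ A | pull (jj t) ξ = 1} := by
  refine (PhiFin.finite hD h1 h2 h3 s).subset fun t ht W w y => ?_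
  rw [← ev_pull_jj, show pull (jj t) ξ = 1 from ht, map_one]

section Locus

variable {P : (PicF.XT A.hom At).Modules} (hP : PicF.IsInvertible P) (hξ : ξ = mk P hP)

include hξ

theorem exists_finite : ∃ Z : Set A.left, Z.Finite ∧ (∀ z ∈ Z, IsClosed ({z} : Set A.left)) ∧
    Zᶜ ⊆ K512.FinSupp.locus (p₁ A At) P := by
  have hcoh := Groth.Agent.S2329.isCoh_of_isInvertible hP
  have hfl := Grpsch.CubeClosed.isFlatOver_of_isInvertible (p₁ A At) hP
  have i1 : IsLocallyNoetherian A.left := LocallyOfFiniteType.isLocallyNoetherian A.hom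
  have i2 : JacobsonSpace A.left := LocallyOfFiniteType.jacobsonSpace A.hom
  let K := AlgebraicClosure k
  let s : Spec (CommRingCat.of K) ⟶ Spec (CommRingCat.of k) := Spec.map (CommRingCat.ofHom (algebraMap k K))
  have hfin := finite_pts hD h1 h2 h3 s
  let Z : Set A.left := (fun t : Over.mk s ⟶ A => t.left (closedPoint K)) '' {t | pull (jj t) ξ = 1} ∩
    {y | IsClosed ({y} : Set A.left)}
  have hZ : Z.Finite := (hfin.image _).subset Set.inter_subset_left
  refine ⟨Z, hZ, fun z hz => hz.2, K512.FinSupp.subset_of_closedPoints Z hZ (fun z hz => hz.2)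
    K512.FinSupp.isOpen_locus fun y hy hyZ => ?_⟩
  obtain ⟨τ, hτ, y', hy'⟩ := Groth.Agent.Pic13.H703.KPoints.exists_point_of_isClosed (K := K) s A.hom y hy
  have hy'' : τ (closedPoint K) = y := by
    rw [← hy']
    congr 1
    exact Subsingleton.elim (α := PrimeSpectrum K) _ _
  let t : Over.mk s ⟶ A := Over.homMk τ hτ
  have ht : pull (jj t) ξ ≠ 1 := by
    intro h
    exact hyZ ⟨⟨t, h, hy''⟩, hy⟩
  obtain ⟨W, hW, hyW, hac⟩ := K512.FibAcyc.exists_acycOver (p₁ A At) P hcoh hfl τ _ _ (sq (At := At) t)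
    (closedPoint K) (fun p => by
      have h4 := van hD h1 h2 h3 s t ht p
      rw [hξ, pull_mk, van_mk] at h4
      exact h4)
  exact ⟨W, hW, hy'' ▸ hyW, hac⟩

end Locus

end K511.PSide
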