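import Groth.Agent.Ega3B.Package

/-!
# The cohomology-and-base-change package with all base changes

`package`: as `Ega3B.Package.package`, with in addition the comparison `H^p(X_B, F_B) = H_{-p}(P ⊗_A B)`, `B`-linearly,
for all `A`-algebras `B`.
-/

set_option autoImplicit false
universe u

open AlgebraicGeometry CategoryTheory CategoryTheory.Limits

namespace K511.PackB

open Groth.Agent.Ega3B Groth.Agent.Ega3B.PackageAsm Groth.Agent

/-- The comparison for one base change. -/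
def CmpB {X Y : Scheme.{u}} (F : X.Modules) {V : Y.Opens}
    (P : ChainComplex (ModuleCat.{u} Γ(Y, V)) ℤ) (B : Type u) [CommRing B] [Algebra Γ(Y, V) B]
    {X' : Scheme.{u}} (j : X' ⟶ X) (q : X' ⟶ Spec (CommRingCat.of B)) (p : ℕ) : Prop :=
  ∃ e : Coh.HH X' ((Scheme.Modules.pullback j).obj F) p ≃+
      (CohIII.TFun P (-(p : ℤ))).obj (ModuleCat.of Γ(Y, V) B),
    ∀ (b : B) (x : Coh.HH X' ((Scheme.Modules.pullback j).obj F) p),
      e (Coh.toGlobal q b • x) = ((CohIII.TFun P (-(p : ℤ))).map (FibreIso.mulB Γ(Y, V) b)).hom (e x)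

theorem package {X Y : Scheme.{u}} (f : X ⟶ Y) [IsProper f] [IsLocallyNoetherian Y]
    [HasInjectiveResolutions X.Modules] (F : X.Modules) (hF : Coh.IsCoh F)
    (hfl : FlatMod.IsFlatOver f F) (V : Y.Opens) (hV : IsAffineOpen V) :
    ∃ P : ChainComplex (ModuleCat.{u} Γ(Y, V)) ℤ,
      (∀ i, Module.Finite Γ(Y, V) (P.X i) ∧ Module.Flat Γ(Y, V) (P.X i)) ∧
      (∃ b : ℤ, ∀ i, (i < b ∨ 0 < i) → IsZero (P.X i)) ∧
      (∀ p : ℕ, Nonempty (Γ((Coh.Rpush f p).obj F, V) ≃ₗ[Γ(Y, V)] P.homology (-(p : ℤ)))) ∧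
      (∀ (y : V) (p : ℕ), Module.Finite (Y.residueField y.1) (CohIII.fiberH f F y.1 p) ∧
        CohIII.fiberRank f F p y.1 = CohIII.dRank P (-(p : ℤ)) (hV.primeIdealOf y)) ∧
      (∀ (B : Type u) [CommRing B] [Algebra Γ(Y, V) B] (X' : Scheme.{u}) (j : X' ⟶ X)
        (q : X' ⟶ Spec (CommRingCat.of B)),
        IsPullback j q f (Spec.map (CommRingCat.ofHom (algebraMap Γ(Y, V) B)) ≫ hV.fromSpec) →
        ∀ p : ℕ, CmpB F P B j q p) := by
  have hR := fun p => RpushAff.exists_equiv_toGlobal f F hF.1 hV p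
  have hFib : ∀ (y : V) (p : ℕ), FibreSec f F hV y p := fun y p =>
    FibreResid.fibreSec_of f F hV y p fun g q H => by
      let _ : (f ⁻¹ᵁ V).toScheme.Over (Spec (CommRingCat.of Γ(Y, V))) := ⟨PackageAsm.strMap f hV⟩
      obtain ⟨e, he⟩ := FibreCmp.exists_cmp g q H (F.restrict (f ⁻¹ᵁ V).ι)
        (Groth.Agent.CohqB.LocalQC.isQCoh_restrict (f ⁻¹ᵁ V).ι hF.1) p
      exact ⟨e, fun a x => by rw [he, FibreCmp.mulB_algebraMap]⟩
  have hN : IsNoetherianRing Γ(Y, V) := IsLocallyNoetherian.component_noetherian ⟨V, hV⟩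
  let iO : (f ⁻¹ᵁ V).toScheme.Over (Spec (CommRingCat.of Γ(Y, V))) := ⟨strMap f hV⟩
  have hpr : IsProper ((f ⁻¹ᵁ V).toScheme ↘ Spec (CommRingCat.of Γ(Y, V))) :=
    inferInstanceAs (IsProper ((f ∣_ V) ≫ hV.isoSpec.hom))
  have hF' : Coh.IsCoh (F.restrict (f ⁻¹ᵁ V).ι) := Groth.Agent.CohqB.LocalQC.isCoh_restrict _ hF
  have hstr : (f ⁻¹ᵁ V).ι ≫ f = strMap f hV ≫ hV.fromSpec := by
    change _ = ((f ∣_ V) ≫ hV.isoSpec.hom) ≫ hV.fromSpec
    rw [Category.assoc, IsAffineOpen.isoSpec_hom_fromSpec, morphismRestrict_ι]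
  have hfl' : FlatMod.IsFlatOver ((f ⁻¹ᵁ V).toScheme ↘ Spec (CommRingCat.of Γ(Y, V)))
      (F.restrict (f ⁻¹ᵁ V).ι) :=
    FlatRestrict.isFlatOver_restrict f _ (f ⁻¹ᵁ V).ι hV.fromSpec hstr F hfl
  obtain ⟨P, hP, hb, hT, hH⟩ := Master.exists_complex' (f ⁻¹ᵁ V).toScheme (F.restrict (f ⁻¹ᵁ V).ι) hF' hfl'
  refine ⟨P, hP, hb, fun p => ?_, fun y p => ?_, ?_⟩
  · obtain ⟨e, he⟩ := hR p
    obtain ⟨e'⟩ := hH p
    let e0 : Γ((Coh.Rpush f p).obj F, V) ≃ₗ[Γ(Y, V)]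
        Coh.HH (f ⁻¹ᵁ V).toScheme (F.restrict (f ⁻¹ᵁ V).ι) p := { e with map_smul' := he }
    exact ⟨e0.trans e'.symm⟩
  · obtain ⟨e, he⟩ := hFib y p
    obtain ⟨e'⟩ := hT p
    obtain ⟨σ, hσ⟩ := FibreRank.exists_sigma hV y
    have := (hP (-(p : ℤ))).1
    refine FibreRank.finrank_eq_dRank P (-(p : ℤ)) (hV.primeIdealOf y)
      (Y.evaluation V y.1 y.2).hom σ hσ (FibreRank.exists_fraction hV y)
      (e.trans (e'.app _).addCommGroupIsoToAddEquiv) ?_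
    intro a w
    have h1 := e'.hom.naturality (a • 𝟙 (ModuleCat.of Γ(Y, V) (hV.primeIdealOf y).asIdeal.ResidueField))
    have h2 := congr($(h1) (e w))
    change (e'.hom.app _).hom (e _) = _
    rw [he]
    exact h2
  · intro B _ _ X' j q H p
    obtain ⟨e'⟩ := hT p
    let j₁ : X' ⟶ (f ⁻¹ᵁ V).toScheme := IsOpenImmersion.lift (f ⁻¹ᵁ V).ι j (by
      rw [Scheme.Opens.range_ι]
      rintro _ ⟨x, rfl⟩
      have h1 : f (j x) = hV.fromSpec (Spec.map (CommRingCat.ofHom (algebraMap Γ(Y, V) B)) (q x)) := by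
        have := congr($(H.w) x)
        exact this
      change f (j x) ∈ V
      rw [h1]
      have h2 : hV.fromSpec (Spec.map (CommRingCat.ofHom (algebraMap Γ(Y, V) B)) (q x)) ∈
        Set.range hV.fromSpec := ⟨_, rfl⟩
      rw [hV.range_fromSpec] at h2
      exact h2)
    have hj₁ : j₁ ≫ (f ⁻¹ᵁ V).ι = j := IsOpenImmersion.lift_fac _ _ _
    have hsq : IsPullback (f ⁻¹ᵁ V).ι (strMap f hV) f hV.fromSpec := by
      refine IsPullback.of_iso (isPullback_morphismRestrict f V).flip (Iso.refl _) (Iso.refl _) hV.isoSpec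
        (Iso.refl _) ?_ ?_ ?_ ?_
      · simp
      · simp
      · simp
      · simp
    have H₁ : IsPullback j₁ q (strMap f hV) (Spec.map (CommRingCat.ofHom (algebraMap Γ(Y, V) B))) := by
      refine IsPullback.of_right ?_ ?_ hsq
      · rw [hj₁]
        exact H
      · have h2 : (j₁ ≫ strMap f hV) ≫ hV.fromSpec =
            (q ≫ Spec.map (CommRingCat.ofHom (algebraMap Γ(Y, V) B))) ≫ hV.fromSpec :=
          calc (j₁ ≫ strMap f hV) ≫ hV.fromSpec = j₁ ≫ (strMap f hV ≫ hV.fromSpec) := Category.assoc _ _ _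
            _ = j₁ ≫ ((f ⁻¹ᵁ V).ι ≫ f) := by rw [hstr]
            _ = j ≫ f := by rw [← Category.assoc, hj₁]
            _ = _ := H.w.trans (Category.assoc _ _ _).symm
        exact (cancel_mono hV.fromSpec).1 h2
    obtain ⟨e, he⟩ := FibreCmp.exists_cmp j₁ q H₁ (F.restrict (f ⁻¹ᵁ V).ι)
      (Groth.Agent.CohqB.LocalQC.isQCoh_restrict (f ⁻¹ᵁ V).ι hF.1) p
    have φ : (Scheme.Modules.pullback j₁).obj (F.restrict (f ⁻¹ᵁ V).ι) ≅ (Scheme.Modules.pullback j).obj F :=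
      (Scheme.Modules.pullback j₁).mapIso ((Scheme.Modules.restrictFunctorIsoPullback (f ⁻¹ᵁ V).ι).app F) ≪≫
      (Scheme.Modules.pullbackComp j₁ (f ⁻¹ᵁ V).ι).app F ≪≫ (Scheme.Modules.pullbackCongr hj₁).app F
    obtain ⟨e2, he2⟩ := FibreResid.exists_equiv_HH φ.symm p
    refine ⟨(e2.trans e).trans (e'.app (ModuleCat.of Γ(Y, V) B)).addCommGroupIsoToAddEquiv, ?_⟩
    intro b x
    have h1 := e'.hom.naturality (FibreIso.mulB Γ(Y, V) b)
    have h2 := congr($(h1) (e (e2 x)))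
    change (e'.hom.app _).hom (e (e2 _)) = _
    rw [he2, he]
    exact h2

end K511.PackB
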