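import Groth.Agent.AbDual.K732.AV
import Groth.Agent.AbDual.K732.BC
import Groth.Agent.AbVar.K512.PhiSurj
import Groth.Agent.AbVar.K513.Lam
import Groth.Agent.Grpsch.MulFin
import Groth.Agent.Sga5.AmpleFib

/-!
# The geometric points of `A` at which the Poincaré class is trivial

`k` a field, `ξ` the Poincaré class on `A × Aᵗ`, `K` an algebraically closed extension of `k`: there are only finitely
many `t : Spec K ⟶ A` with `(t × 1)^* ξ = 1`.
-/

set_option autoImplicit false
universe u

open CategoryTheory CategoryTheory.Limits MonoidalCategory CartesianMonoidalCategory MonObj GrpObj AlgebraicGeometry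

namespace K511.PhiFin

open Groth.Agent Groth.Agent.Grpsch.PicGrp Groth.Agent.Grpsch.Cube Groth.Agent.Fga.RigGrp K732.Cov K732.PicZero
  K732.RigSheaf K732.Dual K732.CubeSec K732.Transp K732.Prim K732.BC K513.Lam

variable {k : Type u} [Field k] {A At : Over (Spec (CommRingCat.of k))} [GrpObj A] [IsProper A.hom] [Smooth A.hom]
  [GeometricallyConnected A.hom] [GrpObj At]
  {φ : ∀ T : Over (Spec (CommRingCat.of k)), PicF.Cl (PicF.XT A.hom T) → (T ⟶ At)}
  (hD : AbDual.IsDualAV Scheme.fppfPrecoverage A At φ) {ξ : Pic (PicF.XT A.hom At)}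
  (h1 : ξ ∈ pz A.hom At) (h2 : ξ ∈ rg A At) (h3 : cm φ ξ = 𝟙 At)

omit [IsProper A.hom] [Smooth A.hom] [GeometricallyConnected A.hom] in
/-- The values of the Mumford class. -/
theorem ev_lam (c : Pic A.left) {W : Over (Spec (CommRingCat.of k))} (a b : W ⟶ A) :
    ev a b (lam (fst A A) (snd A A) c : Pic (A ⊗ A).left) = lam a b c := by
  have h := lam_comp (lift a b) (fst A A) (snd A A) c
  rw [lift_fst, lift_snd] at h
  exact h

include hD h1 h2 h3 in
/-- The Mumford class comes from the Poincaré class. -/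
theorem exists_phi (c : Pic A.left) : ∃ f : A ⟶ At, ∀ (W : Over (Spec (CommRingCat.of k))) (a b : W ⟶ A),
    ev a (b ≫ f) ξ = lam a b c := by
  have := K732.AV.geomInt A
  let l : Pic (PicF.XT A.hom A) := (lam (fst A A) (snd A A) c : Pic (A ⊗ A).left)
  have hl : l ∈ pz A.hom A := by
    have h4 := isPicZeroCl_lam c A (𝟙 A)
    rw [Category.comp_id] at h4
    exact isPicZeroCl_iff.1 h4
  have hl' : l ∈ rg A A := by
    rw [mem_rg_iff]
    exact (ev_lam c (1 : A ⟶ A) (𝟙 A)).trans (lam_one_left _ _)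
  refine ⟨cm φ l, fun W a b => ?_⟩
  have h4 := eq_pull_poinc hD (bijective_XTproj A.hom) h1 h2 h3 hl hl'
  rw [← ev_lam, ← ev_XTmap]
  exact congrArg (ev a b) h4.symm

include hD h1 h2 h3 in
/-- Points at which the Poincaré class is trivial stabilise all classes. -/
theorem lam_eq_one {T : Over (Spec (CommRingCat.of k))} (t : T ⟶ A)
    (ht : ∀ (W : Over (Spec (CommRingCat.of k))) (w : W ⟶ T) (y : W ⟶ At), ev (w ≫ t) y ξ = 1)
    (c : Pic A.left) {W : Over (Spec (CommRingCat.of k))} (w : W ⟶ T) (a : W ⟶ A) : lam a (w ≫ t) c = 1 := by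
  have := K732.AV.geomInt A
  have hcomm : IsCommMonObj A := isCommMonObj_of_isProper_of_geometricallyIntegral A
  obtain ⟨f, hf⟩ := exists_phi hD h1 h2 h3 c
  rw [lam_comm, ← hf, ht]

section Fin

variable {K : Type u} [Field K] (s : Spec (CommRingCat.of K) ⟶ Spec (CommRingCat.of k))

/-- The unit object over the point. -/
noncomputable def uu : dn s (𝟙_ (Over (Spec (CommRingCat.of K)))) ⟶ Over.mk s :=
  Over.homMk (𝟙 _) (by
    change 𝟙 _ ≫ s = 𝟙 _ ≫ s
    rfl)

omit [GrpObj A] [IsProper A.hom] [Smooth A.hom] [GeometricallyConnected A.hom] in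
theorem up_pull {U : Over (Spec (CommRingCat.of K))} (a : dn s U ⟶ A) (c : Pic A.left) :
    pull (up a).left (pull (pullback.fst A.hom s) c) = pl a c := by
  rw [← pull_comp, up_left_fst]

include hD h1 h2 h3 in
/-- The Poincaré class is trivial at finitely many geometric points. -/
theorem finite : Set.Finite {t : Over.mk s ⟶ A | ∀ (W : Over (Spec (CommRingCat.of k))) (w : W ⟶ Over.mk s)
    (y : W ⟶ At), ev (w ≫ t) y ξ = 1} := by
  have := K732.AV.geomInt A
  obtain ⟨L, hL, -⟩ := Groth.Agent.Grpsch.MulFin.exists_symm_ample A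
  have i1 : IsProper (Red.bc s A).hom := inferInstanceAs (IsProper (pullback.snd A.hom s))
  have i2 : GeometricallyIntegral (Red.bc s A).hom :=
    inferInstanceAs (GeometricallyIntegral (pullback.snd A.hom s))
  have i0 : IsAffineHom s := isAffineHom_of_isAffine s
  have i3 : IsAffineHom (pullback.fst A.hom s) := MorphismProperty.pullback_fst _ _ i0
  have hL' : CohB1.IsAmple ((Scheme.Modules.pullback (pullback.fst A.hom s)).obj L) :=
    Groth.Agent.Sga5.AmpleFib.isAmple_pullback (pullback.fst A.hom s) hL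
  have hfin := K512.PhiSurj.finite_of_isAmple (A := Red.bc s A) _ hL'
  refine Set.Finite.of_finite_image (f := fun t : Over.mk s ⟶ A => (up (uu s ≫ t) : 𝟙_ _ ⟶ Red.bc s A))
    (hfin.subset ?_) ?_
  · rintro _ ⟨t, ht, rfl⟩
    change pl (K512.Phi.tr (up (uu s ≫ t))) (mk _ hL'.1) = mk _ hL'.1
    have e1 : (mk _ hL'.1 : Pic (Red.bc s A).left) = pull (pullback.fst A.hom s) (mk L hL.1) := by
      rw [pull_mk]
    have e2 : K512.Phi.tr (up (uu s ≫ t)) =
        up (prj s A * ((dnMap s (toUnit (Red.bc s A)) ≫ uu s) ≫ t)) := by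
      rw [K512.Phi.tr, up_mul, up_prj, comp_up, Category.assoc]
    have e3 := lam_eq_one hD h1 h2 h3 t ht (mk L hL.1) (dnMap s (toUnit (Red.bc s A)) ≫ uu s) (prj s A)
    rw [lam, mul_inv_eq_one, mul_inv_eq_iff_eq_mul] at e3
    have e4 : pl ((dnMap s (toUnit (Red.bc s A)) ≫ uu s) ≫ t) (mk L hL.1) = 1 := by
      rw [pl_comp]
      have : pl t (mk L hL.1) = 1 := pic_spec_local K _
      rw [this, map_one]
    rw [e1, e2]
    refine (up_pull s _ _).trans ?_
    rw [e3, e4, _root_.one_mul]
    rfl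
  · intro t _ t' _ h
    have h4 := up_inj h
    ext1
    have h5 := congrArg CommaMorphism.left h4
    change 𝟙 _ ≫ t.left = 𝟙 _ ≫ t'.left at h5
    rwa [Category.id_comp, Category.id_comp] at h5

end Fin

end K511.PhiFin
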