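import Groth.Agent.AbVar.K511.KosLocal
import Groth.Agent.Ega4A.RegCM

/-!
# Complexes over a regular local ring whose fibres are acyclic outside the closed point

`P` a bounded complex of finite flat modules over a Noetherian local ring `R` of depth at least `g`, in degrees
`≤ 0`, such that `P ⊗ κ(q)` is acyclic for `q` different from the closed point.

* `exists_pow_smul`: a power of the maximal ideal kills all `T_i(R)`.
* `isZero_of_lt`: `T_i(R) = 0` for `i > -g`.
* `exists_cyclic`: if `H_0(P ⊗ k)` has dimension one then `T_0 = Hom(R/I, -)` with `I` containing a power of the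
  maximal ideal.
* `top_iso`: if `R` is regular of dimension `g` and `I` is the maximal ideal, `T_{-g}(R)` is the residue field.
-/

set_option autoImplicit false
universe u
open CategoryTheory CategoryTheory.Limits RingTheory.Sequence Opposite
open scoped TensorProduct

namespace K511.SkyAlg

open Groth.Agent Groth.Agent.Ega3A.TFunBasic K511.KosLES K511.KosLocal

section Gen

variable {A : Type u} [CommRing A] (P : ChainComplex (ModuleCat.{u} A) ℤ)

/-- Isomorphic arguments. -/
noncomputable def quotIso (N : ModuleCat.{u} A) (x : A) (rs : List A) :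
    ModuleCat.of A ((QuotSMulTop x N) ⧸ (Ideal.ofList rs • (⊤ : Submodule A (QuotSMulTop x N)))) ≅
      ModuleCat.of A (N ⧸ (Ideal.ofList (x :: rs) • (⊤ : Submodule A N))) :=
  (Submodule.quotOfListConsSMulTopEquivQuotSMulTopInner N x rs).symm.toModuleIso

/-- Division by a regular sequence, explicit form. -/
theorem chain (hP : ∀ i, Module.Flat A (P.X i)) (rs : List A) : ∀ (N : ModuleCat.{u} A) (j : ℤ),
    IsWeaklyRegular N rs → (∀ i, j < i → IsZero ((CohIII.TFun P i).obj N)) →
    (∀ x ∈ rs, ∀ t : (CohIII.TFun P j).obj N, x • t = 0) →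
      Nonempty ((CohIII.TFun P (j + rs.length)).obj
        (ModuleCat.of A (N ⧸ (Ideal.ofList rs • (⊤ : Submodule A N)))) ≅ (CohIII.TFun P j).obj N) := by
  induction rs with
  | nil =>
    intro N j _ h1 _
    have e : ModuleCat.of A (N ⧸ (Ideal.ofList ([] : List A) • (⊤ : Submodule A N))) ≅ N := by
      refine (Submodule.quotEquivOfEqBot _ ?_).toModuleIso
      rw [Ideal.ofList_nil, Submodule.bot_smul]
    simp only [List.length_nil, Nat.cast_zero, add_zero]
    exact ⟨(CohIII.TFun P j).mapIso e⟩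
  | cons x rs ih =>
    intro N j hreg h1 h2
    rw [isWeaklyRegular_cons_iff] at hreg
    obtain ⟨s1, ⟨e⟩⟩ := step P hP N x hreg.1 j h1 (h2 x List.mem_cons_self)
    obtain ⟨e'⟩ := ih (ModuleCat.of A (QuotSMulTop x N)) (j + 1) hreg.2 s1 (by
      intro y hy t
      have h3 := h2 y (List.mem_cons_of_mem x hy) (e.hom.hom t)
      have h4 : e.hom.hom (y • t) = 0 := by rw [map_smul, h3]
      have h5 := congrArg e.inv.hom h4
      rw [map_zero] at h5
      rw [← h5]
      exact (congr($(e.hom_inv_id).hom (y • t))).symm)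
    have hl : j + ((x :: rs).length : ℤ) = j + 1 + rs.length := by
      rw [List.length_cons, Nat.cast_add, Nat.cast_one]
      ring
    rw [hl]
    exact ⟨(CohIII.TFun P (j + 1 + rs.length)).mapIso (quotIso N x rs).symm ≪≫ e' ≪≫ e⟩

end Gen

section Local

variable {R : Type u} [CommRing R] [IsLocalRing R] [IsNoetherianRing R] (P : ChainComplex (ModuleCat.{u} R) ℤ)

open IsLocalRing

omit [IsNoetherianRing R] in
/-- Modules supported at the closed point are killed by a power of the maximal ideal. -/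
theorem exists_pow_le (hn : (maximalIdeal R).FG) (M : Type u) [AddCommGroup M] [Module R M] [Module.Finite R M]
    (h : ∀ x : PrimeSpectrum R, x ≠ closedPoint R → x ∉ Module.support R M) :
    ∃ n : ℕ, maximalIdeal R ^ n ≤ Module.annihilator R M := by
  refine Ideal.exists_pow_le_of_le_radical_of_fg ?_ hn
  rw [← PrimeSpectrum.zeroLocus_subset_zeroLocus_iff, ← Module.support_eq_zeroLocus]
  intro x hx
  by_cases h1 : x = closedPoint R
  · subst h1
    exact fun a ha => ha
  · exact absurd hx (h x h1)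

theorem finite_homology (hP : ∀ i, Module.Finite R (P.X i)) (i : ℤ) : Module.Finite R (P.homology i) := by
  have := hP i
  exact Ega3B.FibreRank.finite_homology P i

/-- A power of the maximal ideal kills all the `T_i(R)`. -/
theorem exists_pow_smul (hP : ∀ i, Module.Finite R (P.X i) ∧ Module.Flat R (P.X i))
    (b : ℤ) (hb : ∀ i, i < b → IsZero (P.X i)) (c : ℤ) (hc : ∀ i, c < i → IsZero (P.X i))
    (hac : ∀ x : PrimeSpectrum R, x ≠ closedPoint R → ∀ i, CohIII.dRank P i x = 0) :
    ∃ n : ℕ, ∀ i, ∀ a ∈ maximalIdeal R ^ n, ∀ t : (CohIII.TFun P i).obj (ModuleCat.of R R), a • t = 0 := by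
  have h1 : ∀ i : ℤ, ∃ n : ℕ, maximalIdeal R ^ n ≤ Module.annihilator R (P.homology i) := by
    intro i
    have := finite_homology P (fun i => (hP i).1) i
    refine exists_pow_le (IsNoetherian.noetherian _) _ ?_
    intro x hx
    rw [Module.notMem_support_iff]
    exact Ega3B.VanishFibre.subsingleton_localized_homology P i (i - 1) (by simp) (hP i).1 (hP _).1 (hP _).2 x
      (hac x hx i)
  choose n hn using h1
  have h2 : ∀ i a, a ∈ maximalIdeal R ^ (n i) → ∀ t : (CohIII.TFun P i).obj (ModuleCat.of R R), a • t = 0 := by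
    intro i a ha t
    have h3 := Module.mem_annihilator.1 (hn i ha) ((Ega3A.BcHomology.TUnitIso P i).hom.hom t)
    have h4 : (Ega3A.BcHomology.TUnitIso P i).hom.hom (a • t) = 0 := by rw [map_smul, h3]
    have h5 := congrArg (Ega3A.BcHomology.TUnitIso P i).inv.hom h4
    rw [map_zero] at h5
    rw [← h5]
    exact (congr($((Ega3A.BcHomology.TUnitIso P i).hom_inv_id).hom (a • t))).symm
  have h3 : ∀ i, IsZero (P.X i) → ∀ t : (CohIII.TFun P i).obj (ModuleCat.of R R), t = 0 := by
    intro i hi t
    have h4 : IsZero (P.homology i) := by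
      rw [← HomologicalComplex.exactAt_iff_isZero_homology]
      exact ShortComplex.exact_of_isZero_X₂ _ hi
    exact (ModuleCat.subsingleton_of_isZero (h4.of_iso (Ega3A.BcHomology.TUnitIso P i))).elim _ _
  refine ⟨(Finset.Icc b c).sup n, fun i a ha t => ?_⟩
  by_cases hi : i ∈ Finset.Icc b c
  · exact h2 i a (Ideal.pow_le_pow_right (Finset.le_sup hi) ha) t
  · rw [Finset.mem_Icc, not_and_or, not_le, not_le] at hi
    rw [h3 i (hi.elim (hb i) (hc i)) t, smul_zero]

/-- Vanishing above. -/
theorem isZero_of_isZero (i : ℤ) (hi : IsZero (P.X i)) (N : ModuleCat.{u} R) :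
    IsZero ((CohIII.TFun P i).obj N) := by
  have h1 : IsZero ((((MonoidalCategory.tensorRight N).mapHomologicalComplex (ComplexShape.down ℤ)).obj P).X i) :=
    (MonoidalCategory.tensorRight N).map_isZero hi
  have h4 : IsZero ((((MonoidalCategory.tensorRight N).mapHomologicalComplex
      (ComplexShape.down ℤ)).obj P).homology i) := by
    rw [← HomologicalComplex.exactAt_iff_isZero_homology]
    exact ShortComplex.exact_of_isZero_X₂ _ h1
  exact h4

/-- All homology below the top degree vanishes. -/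
theorem isZero_of_lt (hP : ∀ i, Module.Finite R (P.X i) ∧ Module.Flat R (P.X i))
    (h0 : ∀ i, 0 < i → IsZero (P.X i)) {g : ℕ} (hg : (g : ℕ∞) ≤ LocCoh.depth R R) (n : ℕ)
    (hn : ∀ i, ∀ a ∈ maximalIdeal R ^ n, ∀ t : (CohIII.TFun P i).obj (ModuleCat.of R R), a • t = 0) :
    ∀ i : ℤ, -(g : ℤ) < i → IsZero ((CohIII.TFun P i).obj (ModuleCat.of R R)) := by
  obtain ⟨rs, hl, hrs, hreg⟩ := exists_regular (R := R) hg n
  have key : ∀ (k : ℕ) (i : ℤ), -(k : ℤ) < i → -(g : ℤ) < i → IsZero ((CohIII.TFun P i).obj (ModuleCat.of R R)) := by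
    intro k
    induction k with
    | zero =>
      intro i hi _
      exact isZero_of_isZero P i (h0 i (by simpa using hi)) _
    | succ k ih =>
      intro i hi hi'
      obtain ⟨e⟩ := chain P (fun i => (hP i).2) rs (ModuleCat.of R R) i hreg
        (fun j hj => ih j (by push_cast at hi; omega) (by omega)) (fun x hx t => hn i x (hrs x hx) t)
      refine (isZero_of_isZero P _ (h0 _ ?_) _).of_iso e.symm
      rw [hl]
      omega
  intro i hi
  exact key g i hi hi

/-- `T_0` is represented by a finite module. -/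
theorem exists_rep (hP : ∀ i, Module.Finite R (P.X i) ∧ Module.Flat R (P.X i))
    (h0 : ∀ i, 0 < i → IsZero (P.X i)) :
    ∃ (Q : ModuleCat.{u} R) (_ : Module.Finite R Q),
      Nonempty (CohIII.TFun P 0 ≅ (linearCoyoneda R (ModuleCat.{u} R)).obj (op Q)) := by
  have hm : (CohIII.TFun P 0).PreservesMonomorphisms := by
    constructor
    intro M N f hf
    have hS : (ShortComplex.mk f (cokernel.π f) (by simp)).ShortExact :=
      { exact := ShortComplex.exact_cokernel f
        mono_f := hf
        epi_g := by dsimp; infer_instance }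
    have e := T_exact₁ P (fun i => (hP i).2) hS 1 0 (by simp)
    exact e.mono_g ((isZero_of_isZero P 1 (h0 1 (by simp)) _).eq_of_src _ _)
  obtain ⟨h1, h2⟩ := Groth.Agent.S2376.result P hP 0
  obtain ⟨Q, hQ⟩ := h1.1 hm
  exact ⟨Q, h2 Q hQ, hQ⟩

omit [IsLocalRing R] [IsNoetherianRing R] in
/-- Points outside the support. -/
theorem notMem_support_of_hom (Q : Type u) [AddCommGroup Q] [Module R Q] [Module.Finite R Q] (x : PrimeSpectrum R)
    (h : Subsingleton (Q →ₗ[R] x.asIdeal.ResidueField)) : x ∉ Module.support R Q := by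
  rw [Module.mem_support_iff_nontrivial_residueField_tensorProduct, not_nontrivial_iff_subsingleton]
  have h1 : Subsingleton (Module.Dual x.asIdeal.ResidueField (x.asIdeal.ResidueField ⊗[R] Q)) :=
    (LinearMap.liftBaseChangeEquiv x.asIdeal.ResidueField
      (R := R) (M := Q) (N := x.asIdeal.ResidueField)).symm.toEquiv.subsingleton
  refine subsingleton_of_forall_eq 0 fun v => ?_
  refine (Module.forall_dual_apply_eq_zero_iff x.asIdeal.ResidueField v).1 fun w => ?_
  rw [Subsingleton.elim w 0, LinearMap.zero_apply]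

omit [IsNoetherianRing R] in
theorem closedPoint_mem_support (Q : Type u) [AddCommGroup Q] [Module R Q] [Module.Finite R Q] [Nontrivial Q] :
    closedPoint R ∈ Module.support R Q := by
  rw [Module.support_eq_zeroLocus]
  exact fun a ha => IsLocalRing.le_maximalIdeal (J := Module.annihilator R Q) (by
    rw [Ne, Module.annihilator_eq_top_iff]
    exact not_subsingleton Q) ha

omit [IsNoetherianRing R] in
/-- Modules with one dimensional fibre are cyclic. -/
theorem exists_cyclic (Q : Type u) [AddCommGroup Q] [Module R Q] [Module.Finite R Q]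
    (h : Module.finrank (closedPoint R).asIdeal.ResidueField (Q →ₗ[R] (closedPoint R).asIdeal.ResidueField) = 1) :
    ∃ I : Ideal R, I ≠ ⊤ ∧ Nonempty (Q ≃ₗ[R] R ⧸ I) := by
  obtain ⟨w, hw, hall⟩ := finrank_eq_one_iff'.1 h
  obtain ⟨q, hq⟩ : ∃ q, w q ≠ 0 := by
    by_contra hc
    push Not at hc
    exact hw (LinearMap.ext hc)
  have h1 : Subsingleton ((Q ⧸ Submodule.span R {q}) →ₗ[R] (closedPoint R).asIdeal.ResidueField) := by
    refine subsingleton_of_forall_eq 0 fun v => ?_
    obtain ⟨c, hc⟩ := hall (v ∘ₗ (Submodule.span R {q}).mkQ)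
    have h2 : c * w q = 0 := by
      have h3 := LinearMap.congr_fun hc q
      have h4 : (Submodule.span R {q}).mkQ q = 0 := by
        rw [Submodule.mkQ_apply, Submodule.Quotient.mk_eq_zero]
        exact Submodule.mem_span_singleton_self q
      rw [LinearMap.comp_apply, h4, map_zero] at h3
      exact h3
    have h5 : c = 0 := (mul_eq_zero.1 h2).resolve_right hq
    rw [h5, zero_smul] at hc
    exact (LinearMap.cancel_right (Submodule.mkQ_surjective _)).1 (by rw [← hc, LinearMap.zero_comp])
  have h2 : Subsingleton (Q ⧸ Submodule.span R {q}) := by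
    by_contra hc
    rw [not_subsingleton_iff_nontrivial] at hc
    exact notMem_support_of_hom _ _ h1 (closedPoint_mem_support _)
  have h3 : Submodule.span R {q} = ⊤ := Submodule.Quotient.subsingleton_iff.1 h2
  have h4 : Function.Surjective (LinearMap.toSpanSingleton R Q q) := by
    rw [← LinearMap.range_eq_top, LinearMap.range_toSpanSingleton, h3]
  refine ⟨LinearMap.ker (LinearMap.toSpanSingleton R Q q), ?_,
    ⟨((LinearMap.toSpanSingleton R Q q).quotKerEquivOfSurjective h4).symm⟩⟩
  intro h5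
  rw [LinearMap.ker_eq_top] at h5
  apply hq
  have h6 := LinearMap.congr_fun h5 1
  rw [LinearMap.toSpanSingleton_apply, one_smul, LinearMap.zero_apply] at h6
  rw [h6, map_zero]

omit [IsNoetherianRing R] in
/-- The socle of an Artinian quotient. -/
theorem exists_socle (I : Ideal R) (hI : I ≠ ⊤) (n : ℕ) (hn : maximalIdeal R ^ n ≤ I) :
    ∃ z : R, z ∉ I ∧ ∀ a ∈ maximalIdeal R, z * a ∈ I := by
  classical
  have hex : ∃ n, maximalIdeal R ^ n ≤ I := ⟨n, hn⟩
  have h0 : Nat.find hex ≠ 0 := by
    intro h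
    have := Nat.find_spec hex
    rw [h, pow_zero, Ideal.one_eq_top, top_le_iff] at this
    exact hI this
  obtain ⟨m, hm⟩ := Nat.exists_eq_succ_of_ne_zero h0
  have h1 : ¬ maximalIdeal R ^ m ≤ I := Nat.find_min hex (by omega)
  obtain ⟨z, hz, hz'⟩ := Set.not_subset.1 h1
  refine ⟨z, hz', fun a ha => Nat.find_spec hex ?_⟩
  rw [hm, pow_succ]
  exact Ideal.mul_mem_mul hz ha

/-- `T_0` is corepresented by an Artinian quotient of `R`. -/
theorem exists_quot (hP : ∀ i, Module.Finite R (P.X i) ∧ Module.Flat R (P.X i))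
    (h0 : ∀ i, 0 < i → IsZero (P.X i))
    (hac : ∀ x : PrimeSpectrum R, x ≠ closedPoint R → CohIII.dRank P 0 x = 0)
    (h1 : CohIII.dRank P 0 (closedPoint R) = 1) :
    ∃ (I : Ideal R) (n : ℕ), I ≠ ⊤ ∧ maximalIdeal R ^ n ≤ I ∧
      Nonempty (CohIII.TFun P 0 ≅ (linearCoyoneda R (ModuleCat.{u} R)).obj (op (ModuleCat.of R (R ⧸ I)))) := by
  obtain ⟨Q, hQ, ⟨e⟩⟩ := exists_rep P hP h0
  have hf := (hP 0).1
  obtain ⟨hfin, hfr⟩ := finrank_tensor P 0 e (closedPoint R)
  rw [h1] at hfr
  obtain ⟨I, hI, ⟨e2⟩⟩ := exists_cyclic Q hfr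
  obtain ⟨n, hn⟩ := exists_pow_le (R := R) (IsNoetherian.noetherian _) Q (by
    intro x hx
    obtain ⟨hfin, hfr⟩ := finrank_tensor P 0 e x
    rw [hac x hx] at hfr
    exact notMem_support_of_hom Q x (Module.finrank_zero_iff.1 hfr))
  refine ⟨I, n, hI, ?_, ⟨e ≪≫ (linearCoyoneda R (ModuleCat.{u} R)).mapIso e2.toModuleIso.symm.op⟩⟩
  rw [e2.annihilator_eq, Ideal.annihilator_quotient] at hn
  exact hn

/-- Homomorphisms from the residue field. -/
theorem exists_hom_equiv (I : Ideal R) : Nonempty (((R ⧸ I) →ₗ[R] (R ⧸ I)) ≃ₗ[R] (R ⧸ I)) := by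
  refine ⟨LinearEquiv.ofBijective (LinearMap.applyₗ (1 : R ⧸ I)) ⟨?_, ?_⟩⟩
  · rw [injective_iff_map_eq_zero]
    intro f hf
    refine LinearMap.ext fun x => ?_
    obtain ⟨r, rfl⟩ := Ideal.Quotient.mk_surjective x
    have h1 : (Ideal.Quotient.mk I r) = r • (1 : R ⧸ I) := by
      rw [← mul_one ((Ideal.Quotient.mk I) r)]
      rfl
    have h2 : f (1 : R ⧸ I) = 0 := hf
    rw [h1, map_smul, h2, smul_zero, LinearMap.zero_apply]
  · intro a
    refine ⟨LinearMap.mulRight R a, ?_⟩
    change (1 : R ⧸ I) * a = a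
    rw [one_mul]

end Local

section Regular

open IsLocalRing

variable {R : Type u} [CommRing R] [IsRegularLocalRing R] (P : ChainComplex (ModuleCat.{u} R) ℤ)

/-- A regular system of parameters, as a list. -/
theorem exists_params {g : ℕ} (hg : ringKrullDim R = g) :
    ∃ rs : List R, rs.length = g ∧ Ideal.ofList rs = maximalIdeal R ∧ IsWeaklyRegular R rs := by
  classical
  obtain ⟨s, hs1, hs2⟩ := Submodule.FG.exists_span_finset_card_eq_spanFinrank
    (p := maximalIdeal R) (IsNoetherian.noetherian _)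
  have h1 : (maximalIdeal R).spanFinrank = g := by
    have := IsRegularLocalRing.spanFinrank_maximalIdeal (R := R)
    rw [hg] at this
    exact_mod_cast this
  have h2 : s.toList.length = g := by rw [Finset.length_toList, hs1, h1]
  have h3 : Ideal.ofList s.toList = maximalIdeal R := by
    rw [Ideal.ofList]
    simp only [Finset.mem_toList]
    exact hs2
  exact ⟨s.toList, h2, h3,
    (Groth.Agent.CalgA.RegBasic.isRegular_of_ofList_eq g R s.toList h2 hg h3).toIsWeaklyRegular⟩

/-- The top homology is the residue field if `T_0 = Hom(k, -)`. -/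
theorem top_iso (hP : ∀ i, Module.Finite R (P.X i) ∧ Module.Flat R (P.X i))
    (h0 : ∀ i, 0 < i → IsZero (P.X i)) {g : ℕ} (hg : ringKrullDim R = g) (n : ℕ)
    (hn : ∀ i, ∀ a ∈ maximalIdeal R ^ n, ∀ t : (CohIII.TFun P i).obj (ModuleCat.of R R), a • t = 0)
    (e : CohIII.TFun P 0 ≅ (linearCoyoneda R (ModuleCat.{u} R)).obj
      (op (ModuleCat.of R (R ⧸ maximalIdeal R)))) :
    Nonempty ((CohIII.TFun P (-(g : ℤ))).obj (ModuleCat.of R R) ≅ ModuleCat.of R (R ⧸ maximalIdeal R)) := by
  have hd : (g : ℕ∞) ≤ LocCoh.depth R R := by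
    have h1 : ringKrullDim R = ((LocCoh.depth R R : ℕ∞) : WithBot ℕ∞) := by
      have h := Groth.Agent.Ega4A.RegCM.isCohenMacaulayLocalRing_of_isRegularLocalRing R
      rw [← Module.supportDim_self_eq_ringKrullDim]
      exact h.supportDim_eq_depth
    rw [hg] at h1
    exact_mod_cast h1.le
  have hz := isZero_of_lt P hP h0 hd n hn
  have hk : ∀ (N : ModuleCat.{u} R) (a : R), a ∈ maximalIdeal R → ∀ t : (CohIII.TFun P 0).obj N, a • t = 0 := by
    intro N a ha t
    obtain ⟨w, rfl⟩ := (evEquiv P 0 e N).surjective t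
    rw [← map_smul]
    have h1 : a • w = 0 := by
      refine LinearMap.ext fun x => ?_
      obtain ⟨r, rfl⟩ := Ideal.Quotient.mk_surjective x
      have h2 : a • (Ideal.Quotient.mk (maximalIdeal R) r) = 0 :=
        Ideal.Quotient.eq_zero_iff_mem.2 (Ideal.mul_mem_right r _ ha)
      rw [LinearMap.smul_apply, ← map_smul, h2, map_zero, LinearMap.zero_apply]
    rw [h1, map_zero]
  have hk' : ∀ a ∈ maximalIdeal R, ∀ t : (CohIII.TFun P (-(g : ℤ))).obj (ModuleCat.of R R), a • t = 0 := by
    obtain ⟨rs, hl, hrs, hreg⟩ := exists_regular (R := R) hd n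
    obtain ⟨e1⟩ := chain P (fun i => (hP i).2) rs (ModuleCat.of R R) (-(g : ℤ)) hreg hz
      (fun x hx t => hn _ x (hrs x hx) t)
    rw [hl, neg_add_cancel] at e1
    intro a ha t
    have h3 := hk _ a ha (e1.inv.hom t)
    have h4 : e1.inv.hom (a • t) = 0 := by rw [map_smul, h3]
    have h5 := congrArg e1.hom.hom h4
    rw [map_zero] at h5
    rw [← h5]
    exact (congr($(e1.inv_hom_id).hom (a • t))).symm
  obtain ⟨rs, hl, hrs, hreg⟩ := exists_params (R := R) hg
  obtain ⟨e1⟩ := chain P (fun i => (hP i).2) rs (ModuleCat.of R R) (-(g : ℤ)) hreg hz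
    (fun x hx t => hk' x (by rw [← hrs]; exact Ideal.subset_span hx) t)
  rw [hl, neg_add_cancel] at e1
  have e2 : ModuleCat.of R (R ⧸ (Ideal.ofList rs • (⊤ : Submodule R R))) ≅ ModuleCat.of R (R ⧸ maximalIdeal R) :=
    (Submodule.quotEquivOfEq _ _ (by rw [hrs, smul_eq_mul, Ideal.mul_top])).toModuleIso
  obtain ⟨e3⟩ := exists_hom_equiv (R := R) (maximalIdeal R)
  exact ⟨e1.symm ≪≫ (CohIII.TFun P 0).mapIso e2 ≪≫
    ((evEquiv P 0 e (ModuleCat.of R (R ⧸ maximalIdeal R))).symm.trans e3).toModuleIso⟩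

end Regular

end K511.SkyAlg
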