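import Groth.Agent.AbVar.K511.PC2
import Groth.Agent.CohqB.DevSupport
import Groth.Agent.CurvesB.SubClosed
import Groth.Agent.Ega1.SuppTensorMod
import Groth.Agent.CohqA.MV
import Groth.Agent.CohqB.QC4
import Groth.Agent.PerfA.CohSerre
import Groth.Agent.Ega1.QcqsPush

/-!
# Recognition of the skyscraper module by the dimension of the space of sections
-/

set_option autoImplicit false
universe u

open CategoryTheory CategoryTheory.Limits AlgebraicGeometry Opposite TopologicalSpace IsLocalRing

namespace K511.SkyDim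

open Groth.Agent Groth.Agent.VarietyB.HHLes

section Zero

variable {X : Scheme.{u}} (M : X.Modules)

/-- A section is zero if its germs are. -/
theorem eq_zero_of_germ {U : X.Opens} (s : Γ(M, U)) (h : ∀ (x : X) (hx : x ∈ U), M.presheaf.germ U x hx s = 0) :
    s = 0 := by
  refine TopCat.Presheaf.section_ext (Coh.toAb M) U s 0 fun x hx => ?_
  rw [map_zero]
  exact h x hx

/-- Gluing with zero. -/
theorem exists_glue {U V : X.Opens} (hUV : U ⊔ V = ⊤) (h0 : Subsingleton Γ(M, U ⊓ V)) (s : Γ(M, U)) :
    ∃ t : Γ(M, ⊤), M.presheaf.map (homOfLE (le_top : U ≤ ⊤)).op t = s := by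
  obtain ⟨c, hc, -⟩ := CohqA.MV.exists_glue (X := X.toTopCat) (Coh.toAb M) U V 0
    ((CohqA.SheafH.H0 (Coh.toAb M) U).symm s) 0 (by
      apply (CohqA.SheafH.H0 (Coh.toAb M) (U ⊓ V)).injective
      exact Subsingleton.elim (α := Γ(M, U ⊓ V)) _ _)
  have h1 := congrArg (CohqA.SheafH.H0 (Coh.toAb M) U) hc
  rw [AddEquiv.apply_symm_apply] at h1
  have h2 : (CohqA.SheafH.H0 (Coh.toAb M) U) (CohTop.res (Coh.toAb M) 0 le_sup_left c) =
      (Coh.toAb M).obj.map (homOfLE (le_sup_left : U ≤ U ⊔ V)).op ((CohqA.SheafH.H0 (Coh.toAb M) (U ⊔ V)) c) :=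
    CohqA.SheafH.H0_res _ _ _
  have h1' := h2.symm.trans h1
  have key : ∀ (W : X.Opens) (hW : W = ⊤) (hU : U ≤ W) (t : Γ(M, W)),
      M.presheaf.map (homOfLE hU).op t = s → ∃ t : Γ(M, ⊤), M.presheaf.map (homOfLE (le_top : U ≤ ⊤)).op t = s := by
    rintro W rfl hU t ht
    exact ⟨t, ht⟩
  exact key _ hUV _ _ h1'

/-- A module with finite discrete support without global sections is zero. -/
theorem isZero (Z : Set X) (hZfin : Z.Finite) (hZcl : ∀ z ∈ Z, IsClosed ({z} : Set X)) (hZ : CohB1.support M ⊆ Z)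
    (h : Subsingleton Γ(M, ⊤)) : IsZero M := by
  refine CohqB.DevSupport.isZero_of_support_eq_empty ?_
  rw [Set.eq_empty_iff_forall_notMem]
  intro z hz
  apply hz
  refine subsingleton_of_forall_eq 0 fun c => ?_
  obtain ⟨V, hzV, s, rfl⟩ := TopCat.Presheaf.exists_germ_eq M.presheaf c
  have hcl : IsClosed (Z \ {z}) := by
    rw [← Set.biUnion_of_singleton (Z \ {z})]
    exact (hZfin.subset Set.sdiff_subset).isClosed_biUnion fun w hw => hZcl w hw.1
  let U : X.Opens := V ⊓ ⟨(Z \ {z})ᶜ, hcl.isOpen_compl⟩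
  let B : X.Opens := ⟨({z} : Set X)ᶜ, (hZcl z (hZ hz)).isOpen_compl⟩
  have hzU : z ∈ U := ⟨hzV, fun hc => hc.2 rfl⟩
  have hUB : U ⊔ B = ⊤ := by
    apply Opens.ext
    ext y
    simp only [Opens.coe_sup, Opens.coe_top, Set.mem_univ, iff_true, Set.mem_union]
    by_cases hy : y = z
    · left
      rw [hy]
      exact hzU
    · right
      exact hy
  have h0 : Subsingleton Γ(M, U ⊓ B) := by
    refine subsingleton_of_forall_eq 0 fun t => eq_zero_of_germ M t fun x hx => ?_
    have hxZ : x ∉ CohB1.support M := fun hc => hx.1.2 ⟨hZ hc, hx.2⟩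
    have : Subsingleton (M.presheaf.stalk x) := not_not.1 hxZ
    exact Subsingleton.elim _ _
  have hUV : U ≤ V := inf_le_left
  obtain ⟨t, ht⟩ := exists_glue M hUB h0 (M.presheaf.map (homOfLE hUV).op s)
  rw [← TopCat.Presheaf.germ_res_apply M.presheaf (homOfLE hUV) z hzU s]
  have h1 : M.presheaf.map (homOfLE hUV).op s = 0 := by
    rw [← ht, Subsingleton.elim t 0]
    exact map_zero _
  rw [h1, map_zero]

end Zero

section Main

variable (k : Type u) [Field k] {X : Scheme.{u}} [X.Over (Spec (CommRingCat.of k))]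
  [IsProper (X ↘ Spec (CommRingCat.of k))]
  (e : Spec (CommRingCat.of k) ⟶ X) (he : e ≫ (X ↘ Spec (CommRingCat.of k)) = 𝟙 _)
  (M : X.Modules) (hM : Coh.IsCoh M)

include he hM in
/-- **Recognition of the skyscraper module at a rational point.** -/
theorem nonempty_iso (Z : Set X) (hZfin : Z.Finite) (hZcl : ∀ z ∈ Z, IsClosed ({z} : Set X))
    (hZ : CohB1.support M ⊆ Z) (hy : UnitPt.pt e ∈ CohB1.support M)
    (h : Module.finrank k (Coh.HH X M 0) = 1) :
    Nonempty (M ≅ (Coh.push e).obj (Coh.structureModule (Spec (CommRingCat.of k)))) := by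
  have i1 : IsLocallyNoetherian X := LocallyOfFiniteType.isLocallyNoetherian (X ↘ (Spec (CommRingCat.of k)))
  have i2 : IsClosedImmersion e := by
    have h2 : IsClosedImmersion (e ≫ (X ↘ Spec (CommRingCat.of k))) := by
      rw [he]
      exact inferInstanceAs (IsClosedImmersion (𝟙 (Spec (CommRingCat.of k))))
    exact IsClosedImmersion.of_comp e (X ↘ Spec (CommRingCat.of k))
  let N := (Scheme.Modules.pullback e).obj M
  have hN : Coh.IsCoh N := FormalA.PullbackQC.isCoh_pullback e M hM
  have hNq : N.IsQuasicoherent := hN.1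
  obtain ⟨n, ⟨j⟩⟩ := K526.PullM.exists_iso_free (R := CommRingCat.of k) (Field.toIsField k) N hN.2
  let u : M ⟶ (Scheme.Modules.pushforward e).obj N := CurvesB.SubClosed.unitι e M
  have hu : Epi u := inferInstanceAs (Epi (CurvesB.SubClosed.unitι e M))
  let S : ShortComplex X.Modules := ShortComplex.mk (kernel.ι u) u (kernel.condition u)
  have hS : S.ShortExact :=
    { exact := ShortComplex.exact_of_f_is_kernel _ (kernelIsKernel _)
      mono_f := inferInstanceAs (Mono (kernel.ι u))
      epi_g := hu }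
  have hsupp := CohqB.DevSupport.support_shortExact hS
  have hK : Coh.IsCoh (kernel u) :=
    PerfA.CohSerre.isCoh_kernel u hM (Ega1.QcqsPush.isQCoh_pushforward e N hN.1)
  have hKZ : CohB1.support (kernel u) ⊆ Z := (Set.subset_union_left.trans hsupp.symm.subset).trans hZ
  have hK1 : Subsingleton (Coh.HH X (kernel u) 1) := Groth.Agent.S1526.result k X (kernel u) hK
    (K524.FinSupp.krullDim_le_zero hZfin hZcl hKZ) 1 le_rfl
  have hr : Module.finrank k (Coh.HH X ((Scheme.Modules.pushforward e).obj N) 0) = n :=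
    (PC2.finrank_iso k ((Scheme.Modules.pushforward e).mapIso j) 0).trans (PC2.finrank_sky k e he n)
  have hsurj : Function.Surjective (Hmap k u 0) := fun x => exact₃ k hS 0 x (Subsingleton.elim (α := Coh.HH X (kernel u) 1) _ _)
  have hn0 : n ≠ 0 := by
    rintro rfl
    have h1 : IsZero N := (Dcoh.ResFree.freeMod_zero_isZero).of_iso j
    have h2 := CohqB.DevSupport.support_eq_empty_of_isZero h1
    have h3 : CohB1.support N = e ⁻¹' CohB1.support M := Ega1.SuppTensorMod.isFT_pullback_support e M hM.2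
    have h4 : closedPoint k ∈ CohB1.support N := by
      rw [h3]
      exact hy
    rw [h2] at h4
    exact h4
  have hfin : Module.Finite k (Hn k X M 0) := Module.finite_of_finrank_pos (by
    have : Module.finrank k (Hn k X M 0) = 1 := h
    omega)
  have hn1 : n = 1 := by
    have h1 : Module.finrank k (Hn k X ((Scheme.Modules.pushforward e).obj N) 0) ≤ Module.finrank k (Hn k X M 0) :=
      LinearMap.finrank_le_finrank_of_surjective (f := Hmap k u 0) hsurj
    have h2 : Module.finrank k (Hn k X M 0) = 1 := h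
    have h3 : Module.finrank k (Hn k X ((Scheme.Modules.pushforward e).obj N) 0) = n := hr
    omega
  subst hn1
  have hfin' : Module.Finite k (Hn k X ((Scheme.Modules.pushforward e).obj N) 0) :=
    Module.Finite.of_surjective (Hmap k u 0) hsurj
  have hinj : Function.Injective (Hmap k u 0) := by
    rw [LinearMap.injective_iff_surjective_of_finrank_eq_finrank]
    · exact hsurj
    · exact h.trans hr.symm
  have hK0 : Subsingleton Γ(kernel u, ⊤) := by
    refine subsingleton_of_forall_eq 0 fun x => ?_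
    have hinj' : ∀ y : Coh.HH X M 0, (Hmap k u 0) y = (0 : Hn k X ((Scheme.Modules.pushforward e).obj N) 0) → y = 0 :=
      fun y hy => hinj (hy.trans (map_zero (Hmap k u 0)).symm)
    have h2 : (CurvesB.HZero.equivAdd M).symm ((kernel.ι u).app ⊤ x) = 0 := by
      apply hinj'
      apply (CurvesB.HZero.equivAdd ((Scheme.Modules.pushforward e).obj N)).injective
      refine (CurvesB.HZero.equivAdd_map u _).trans ?_
      rw [AddEquiv.apply_symm_apply]
      refine Eq.trans ?_ (map_zero (CurvesB.HZero.equivAdd ((Scheme.Modules.pushforward e).obj N))).symm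
      change (kernel.ι u ≫ u).app ⊤ x = 0
      rw [kernel.condition]
      rfl
    have h1 : (kernel.ι u).app ⊤ x = 0 := (map_eq_zero_iff _ (CurvesB.HZero.equivAdd M).symm.injective).1 h2
    exact CohqB.QC4.app_injective_of_mono (kernel.ι u) ⊤ (h1.trans (map_zero _).symm)
  have hKz : IsZero (kernel u) := isZero _ Z hZfin hZcl hKZ hK0
  have hmono : Mono u := Preadditive.mono_of_kernel_zero (hKz.eq_of_src _ _)
  have hiso : IsIso u := isIso_of_mono_of_epi u
  exact Sky.nonempty_one e M rfl ⟨asIso u ≪≫ (Scheme.Modules.pushforward e).mapIso j⟩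

end Main

end K511.SkyDim
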