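import Groth.Agent.Pi1C.EtTraceSch
import Mathlib.AlgebraicGeometry.Morphisms.FlatRank
import Mathlib.LinearAlgebra.Trace
import Mathlib.RingTheory.Spectrum.Prime.FreeLocus

/-!
# The trace of `1` of a finite étale morphism is its rank
-/

set_option autoImplicit false
universe u v w
open CategoryTheory CategoryTheory.Limits AlgebraicGeometry TopologicalSpace Opposite
open scoped TensorProduct

namespace K511.TrOne

open Groth.Agent Groth.Agent.Pi1C.EtTrace Groth.Agent.Pi1C.EtTraceSch

section Alg

variable {R : Type u} {S : Type v} [CommRing R] [CommRing S] [Algebra R S]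

/-- The trace functional of a free algebra takes the value `rank` at `1`. -/
theorem trace_one_free [Nontrivial R] [Module.Free R S] [Module.Finite R S] {τ : S →ₗ[R] R} (h : IsTrace τ) :
    τ 1 = (Module.finrank R S : R) := by
  obtain ⟨e, he, h⟩ := h
  obtain ⟨n, a, b, hab⟩ := exists_sum e
  have h1 : ∑ j, a j * b j = 1 := by
    have := he.lmul
    rw [hab, map_sum] at this
    simpa using this
  have h2 : ∀ s : S, s = ∑ j, τ (a j * s) • b j := by
    intro s
    have := contr_tmul_one_mul he h s
    rw [hab, Finset.mul_sum, map_sum] at this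
    simp only [Algebra.TensorProduct.tmul_mul_tmul, one_mul, contr_tmul, mul_comm s] at this
    exact this.symm
  have h3 : (LinearMap.id : S →ₗ[R] S) = dualTensorHom R S S (∑ j, (τ ∘ₗ LinearMap.mulLeft R (a j)) ⊗ₜ[R] b j) := by
    ext s
    rw [LinearMap.id_apply, map_sum, LinearMap.sum_apply]
    simp only [dualTensorHom_apply, LinearMap.comp_apply, LinearMap.mulLeft_apply]
    exact h2 s
  have h4 := LinearMap.trace_id R S
  rw [h3] at h4
  rw [← h4, LinearMap.trace_eq_contract_apply, map_sum]
  simp only [contractLeft_apply, LinearMap.comp_apply, LinearMap.mulLeft_apply]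
  rw [← map_sum, h1]

/-- The trace functional of a finite projective algebra of constant rank. -/
theorem trace_one [Module.Finite R S] [Module.Projective R S] [Algebra.FormallyUnramified R S] {τ : S →ₗ[R] R}
    (h : IsTrace τ) (N : ℕ) (hN : ∀ p : PrimeSpectrum R, Module.rankAtStalk S p = N) : τ 1 = (N : R) := by
  refine sub_eq_zero.mp ?_
  by_contra hne
  obtain ⟨p, hp⟩ : ∃ p : PrimeSpectrum R, algebraMap R (Localization.AtPrime p.asIdeal) (τ 1 - N) ≠ 0 := by
    by_contra hcon
    push Not at hcon
    apply hne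
    refine Module.eq_zero_of_localization_maximal (fun P _ => Localization.AtPrime P)
      (fun P _ => Algebra.linearMap R (Localization.AtPrime P)) _ ?_
    intro P hP
    exact hcon ⟨P, hP.isPrime⟩
  apply hp
  let R' := Localization.AtPrime p.asIdeal
  let S' := R' ⊗[R] S
  obtain ⟨τ', hτ'⟩ := exists_isTrace (R := R') (S := S')
  let _ : Algebra S S' := Algebra.TensorProduct.rightAlgebra
  have hpush : Algebra.IsPushout R R' S S' := inferInstance
  have h1 := h.map_eq hτ' hpush 1
  rw [map_one] at h1
  have hfree : Module.Free R' S' := Module.free_of_flat_of_isLocalRing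
  have h2 := trace_one_free hτ'
  rw [map_sub, ← h1, h2]
  have h3 : Module.finrank R' S' = N := by
    rw [← hN p, Module.rankAtStalk]
    exact (LinearEquiv.finrank_eq ((LocalizedModule.equivTensorProduct p.asIdeal.primeCompl S))).symm
  rw [h3, map_natCast, sub_self]

end Alg

section Sch

variable {V U : Scheme.{u}} (h : V ⟶ U) [IsFinite h] [Etale h]

/-- The trace of `1`. -/
theorem tr_one {N : ℕ} (hN : ∀ y : U, h.finrank y = N) (O : U.Opens) : tr h O 1 = (N : Γ(U, O)) := by
  refine tr_eq_of_forall h fun W hW e => ?_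
  rw [map_one, map_natCast]
  have h0 : IsTr (h.app W).hom (trAff h hW) := isTr_trAff h hW
  algebraize [(h.app W).hom]
  have hfin : Module.Finite Γ(U, W) Γ(V, h ⁻¹ᵁ W) := IsFinite.finite_app h W hW
  have het : (h.app W).hom.Etale := by
    have := HasRingHomProperty.appLE @Etale h inferInstance ⟨W, hW⟩ ⟨h ⁻¹ᵁ W, hW.preimage h⟩ le_rfl
    rwa [Scheme.Hom.appLE_eq_app] at this
  have het' : Algebra.Etale Γ(U, W) Γ(V, h ⁻¹ᵁ W) := het
  have hflat : Module.Flat Γ(U, W) Γ(V, h ⁻¹ᵁ W) := inferInstance
  have hfp : Module.FinitePresentation Γ(U, W) Γ(V, h ⁻¹ᵁ W) := .of_finite_of_finitePresentation _ _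
  have hproj : Module.Projective Γ(U, W) Γ(V, h ⁻¹ᵁ W) := Module.Flat.projective_of_finitePresentation
  obtain ⟨τ, hτ, h1⟩ := h0
  rw [← h1, trace_one hτ N]
  intro p
  have hpb : IsPullback (hW.preimage h).fromSpec (Spec.map (h.app W)) h hW.fromSpec := by
    rw [← Scheme.Hom.appLE_eq_app]
    refine IsPullback.flip ?_
    apply IsOpenImmersion.isPullback
    · exact (IsAffineOpen.SpecMap_appLE_fromSpec h hW (hW.preimage h) le_rfl).symm
    · rw [IsAffineOpen.opensRange_fromSpec, IsAffineOpen.opensRange_fromSpec]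
  have h2 := Scheme.Hom.finrank_of_isPullback _ _ _ _ hpb p
  rw [hN] at h2
  rw [← h2]
  exact (Scheme.Hom.finrank_SpecMap_algebraMap Γ(U, W) Γ(V, h ⁻¹ᵁ W) p).symm

end Sch

end K511.TrOne
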