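import Groth.Agent.Pic13.H116.Sec
import Groth.Agent.Pic13.H116.Final

/-!
# Uniform Serre vanishing for two ample classes

For `X` proper over a field `k`, `l` and `h` ample classes and `F` coherent there is `p₀` with
`H^i(X, l^s h^p ⊗ F) = 0` for all `s ≥ 0`, `p ≥ p₀`, `i ≥ 1`.
-/

set_option autoImplicit false
universe u
open CategoryTheory CategoryTheory.Limits AlgebraicGeometry TopologicalSpace

namespace K511.TwoVan

open Groth.Agent
open Groth.Agent.Grpsch.PicGrp Groth.Agent.Fdesc.LocGen Groth.Agent.Ega2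
open Groth.Agent.Pic13.H116.Tw Groth.Agent.Pic13.H116.Num Groth.Agent.Pic13.H116.SE Groth.Agent.Pic13.H116.Sec
open Groth.Agent.Pic13.H946.Main

section Def

variable {X : Scheme.{u}}

/-- Vanishing in degrees `≥ j` for all twists by `l^s h^p`, `s ≥ 0`, `p ≥ p₀`. -/
def VG (l h : Pic X) (F : X.Modules) (j : ℕ) : Prop :=
  ∃ p₀ : ℤ, ∀ (s : ℕ) (p : ℤ), p₀ ≤ p → ∀ i : ℕ, j ≤ i → Subsingleton (Coh.HH X (tw (l ^ s * h ^ p) F) i)

variable {l h : Pic X}

theorem VG.congr {F G : X.Modules} {j : ℕ} (hF : VG l h F j) (e : Nonempty (F ≅ G)) : VG l h G j := by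
  obtain ⟨p₀, H⟩ := hF
  obtain ⟨e⟩ := e
  refine ⟨p₀, fun s p hp i hi => ?_⟩
  obtain ⟨e'⟩ := tw_iso (l ^ s * h ^ p) e
  exact Fga.HShift.subsingleton_of_iso e' i (H s p hp i hi)

theorem VG.mono {F : X.Modules} {j j' : ℕ} (hF : VG l h F j) (hj : j ≤ j') : VG l h F j' := by
  obtain ⟨p₀, H⟩ := hF
  exact ⟨p₀, fun s p hp i hi => H s p hp i (hj.trans hi)⟩

theorem VG.mid {A B C : X.Modules} (hS : SE A B C) {j : ℕ} (h1 : VG l h A j) (h3 : VG l h C j) : VG l h B j := by
  obtain ⟨p₁, h1⟩ := h1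
  obtain ⟨p₃, h3⟩ := h3
  exact ⟨max p₁ p₃, fun s p hp i hi => (hS.tw _).van₂ i (h1 s p (le_trans (le_max_left _ _) hp) i hi)
    (h3 s p (le_trans (le_max_right _ _) hp) i hi)⟩

theorem VG.right {A B C : X.Modules} (hS : SE A B C) {j : ℕ} (h2 : VG l h B j) (h1 : VG l h A (j + 1)) :
    VG l h C j := by
  obtain ⟨p₁, h1⟩ := h1
  obtain ⟨p₂, h2⟩ := h2
  exact ⟨max p₁ p₂, fun s p hp i hi => (hS.tw _).van₃ i (h2 s p (le_trans (le_max_right _ _) hp) i hi)
    (h1 s p (le_trans (le_max_left _ _) hp) (i + 1) (by omega))⟩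

theorem VG.of_tw {F : X.Modules} {j : ℕ} {m : ℤ} (hF : VG l h (tw (h ^ m) F) j) : VG l h F j := by
  obtain ⟨p₀, H⟩ := hF
  refine ⟨p₀ + m, fun s p hp i hi => ?_⟩
  obtain ⟨e⟩ := tw_mul (l ^ s * h ^ (p - m)) (h ^ m) F
  have h1 : l ^ s * h ^ (p - m) * h ^ m = l ^ s * h ^ p := by
    rw [mul_assoc, ← zpow_add, sub_add_cancel]
  rw [h1] at e
  exact Fga.HShift.subsingleton_of_iso e.symm i (H s (p - m) (by omega) i hi)

theorem tw_comm (a : Pic X) (F : X.Modules) : Nonempty (tw a F ≅ (CohqB.SerTw.tw (rep a)).obj F) := by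
  obtain ⟨e⟩ := tw_mk' (rep_inv a) F
  rw [mk_rep] at e
  exact ⟨e⟩

theorem VG.freeMod {j : ℕ} (hO : VG l h (Coh.structureModule X) j) (n : ℕ) : VG l h (FlatMod.freeMod X n) j := by
  obtain ⟨p₀, H⟩ := hO
  refine ⟨p₀, fun s p hp i hi => ?_⟩
  set a : Pic X := l ^ s * h ^ p with ha
  obtain ⟨e0⟩ := tw_comm a (Coh.structureModule X)
  have h0 : Subsingleton (Coh.HH X ((CohqB.SerTw.tw (rep a)).obj (Coh.structureModule X)) i) :=
    Fga.HShift.subsingleton_of_iso e0 i (H s p hp i hi)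
  have h1 := Fga.HShift.subsingleton_coproduct
    (fun _ : Fin n => (CohqB.SerTw.tw (rep a)).obj (Coh.structureModule X)) i (fun _ => h0)
  let e : (CohqB.SerTw.tw (rep a)).obj (FlatMod.freeMod X n) ≅
      ∐ fun _ : Fin n => (CohqB.SerTw.tw (rep a)).obj (Coh.structureModule X) :=
    PreservesCoproduct.iso (CohqB.SerTw.tw (rep a)) _
  obtain ⟨e1⟩ := tw_comm a (FlatMod.freeMod X n)
  exact Fga.HShift.subsingleton_of_iso (e1 ≪≫ e).symm i h1

theorem VG.of_isZero {F : X.Modules} (hF : IsZero F) (j : ℕ) : VG l h F j :=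
  ⟨0, fun _ _ _ i _ => Fga.HShift.subsingleton_of_isZero (tw_isZero _ hF) i⟩

end Def

section Proper

variable (k : Type u) [Field k] {X : Scheme.{u}} [X.Over (Spec (CommRingCat.of k))]
  [IsProper (X ↘ Spec (CommRingCat.of k))]

/-- Transfer along a closed immersion. -/
theorem VG.push {Z : Scheme.{u}} [Z.Over (Spec (CommRingCat.of k))] (i : Z ⟶ X) [IsClosedImmersion i]
    (hi : i ≫ (X ↘ Spec (CommRingCat.of k)) = Z ↘ Spec (CommRingCat.of k)) {l h : Pic X} {G : Z.Modules} {j : ℕ}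
    (hG : VG (pull i l) (pull i h) G j) : VG l h ((Coh.push i).obj G) j := by
  obtain ⟨p₀, H⟩ := hG
  refine ⟨p₀, fun s p hp q hq => ?_⟩
  have e1 : Nonempty ((Scheme.Modules.pullback i).obj (rep (l ^ s * h ^ p)) ≅
      rep (pull i l ^ s * pull i h ^ p)) := by
    rw [← map_pow, ← map_zpow, ← map_mul]
    have h2 := pull_mk i (rep_inv (l ^ s * h ^ p))
    rw [mk_rep] at h2
    rw [h2]
    obtain ⟨e⟩ := rep_mk (Fdesc.LocGen.isInvertible_pullback i (rep_inv (l ^ s * h ^ p)))
    exact ⟨e.symm⟩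
  obtain ⟨e⟩ := Pic13.H946.CoreDev.exists_equiv k i hi (rep_inv (l ^ s * h ^ p)) e1 G q
  obtain ⟨e2⟩ := tw_comm (pull i l ^ s * pull i h ^ p) G
  obtain ⟨e3⟩ := tw_comm (l ^ s * h ^ p) ((Coh.push i).obj G)
  have h3 : Subsingleton (Coh.HH Z (CohB1.tensorMod G (rep (pull i l ^ s * pull i h ^ p))) q) :=
    Fga.HShift.subsingleton_of_iso e2 q (H s p hp q hq)
  have h4 : Subsingleton (Coh.HH X (CohB1.tensorMod ((Coh.push i).obj G) (rep (l ^ s * h ^ p))) q) :=
    (e.toEquiv.subsingleton_congr).mpr h3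
  exact Fga.HShift.subsingleton_of_iso e3.symm q h4

include k in
/-- Vanishing for the structure sheaf implies vanishing for all coherent modules. -/
theorem vg_of_structure {l h : Pic X} (hh : CohB1.IsAmple (rep h)) (hO : VG l h (Coh.structureModule X) 1)
    (F : X.Modules) (hF : Coh.IsCoh F) : VG l h F 1 := by
  have hNoeth : IsNoetherian X := VarietyA.TwistExist.isNoetherian k X
  have hsep : X.IsSeparated := Fga.HypSec.isSeparated k X
  obtain ⟨d, hd⟩ := EtpbcA.CdFinDim.exists_dim_le (X ↘ Spec (CommRingCat.of k))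
  have key : ∀ t j : ℕ, 1 ≤ j → d + 1 ≤ j + t → ∀ F : X.Modules, Coh.IsCoh F → VG l h F j := by
    intro t
    induction t with
    | zero =>
      intro j _ hj F _
      exact ⟨0, fun s p _ i hi => Fga.EulerLEAdd.subsingleton_HH X d hd _ i (by omega)⟩
    | succ t ih =>
      intro j hj hjt F hF
      obtain ⟨m, hm⟩ := S2325.result X (rep h) hh F hF
      obtain ⟨e⟩ := tw_pow_nat h F m
      have hF' : Coh.IsCoh (CohB1.tensorMod F (CohB1.tensorPow (rep h) m)) :=
        Sga67.CohBasic.isCoh_of_iso e (tw_coh _ hF)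
      obtain ⟨r, q, hq⟩ := Ega2.H287.FinGenFree.exists_epi_freeMod hF' (hm m le_rfl)
      refine VG.of_tw (m := (m : ℤ)) ?_
      refine VG.congr ?_ ⟨e.symm⟩
      refine VG.right (SE.of_epi q) ((hO.mono hj).freeMod r) (ih (j + 1) (by omega) (by omega) _
          (PerfA.CohSerre.isCoh_kernel q (PerfA.CohSerre.isCoh_freeMod r) hF'.1))
  exact key d 1 le_rfl (by omega) F hF

end Proper

section Int

variable (k : Type u) [Field k] {Z : Scheme.{u}} [Z.Over (Spec (CommRingCat.of k))]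
  [IsProper (Z ↘ Spec (CommRingCat.of k))] [IsIntegral Z]

include k in
/-- The integral step. -/
theorem int_step {l h : Pic Z} (hl : CohB1.IsAmple (rep l)) (hh : CohB1.IsAmple (rep h))
    (IH : ∀ G : Z.Modules, Coh.IsCoh G → CohB1.support G ≠ Set.univ → VG l h G 1) :
    VG l h (Coh.structureModule Z) 1 := by
  have hNoeth : IsNoetherian Z := VarietyA.TwistExist.isNoetherian k Z
  obtain ⟨q₀, hq₀⟩ := exists_pos_rep k hl (1 : Pic Z)
  obtain ⟨r, hr1, hr⟩ : ∃ r : ℕ, 1 ≤ r ∧ 0 < hz k (rep (l ^ r)) := by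
    refine ⟨(max q₀ 1).toNat, ?_, ?_⟩
    · have := le_max_right q₀ 1
      omega
    · have h1 := hq₀ (max q₀ 1) (le_max_left _ _)
      rw [one_mul] at h1
      have h2 : ((max q₀ 1).toNat : ℤ) = max q₀ 1 := Int.toNat_of_nonneg (le_trans zero_le_one (le_max_right _ _))
      rw [← zpow_natCast, h2]
      exact h1
  obtain ⟨C, hC, hCs, hse⟩ := se_of_pos k hr
  obtain ⟨p₁, H1⟩ := IH C hC hCs
  have hser : ∀ s : ℕ, ∃ q : ℤ, ∀ p : ℤ, q ≤ p → ∀ i : ℕ, 1 ≤ i → Subsingleton (Coh.HH Z (rep (l ^ s * h ^ p)) i) := by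
    intro s
    obtain ⟨q, hq⟩ := serre k hh (rep_coh (l ^ s))
    refine ⟨q, fun p hp i hi => ?_⟩
    obtain ⟨e⟩ := tw_rep (h ^ p) (l ^ s)
    rw [mul_comm] at e
    exact Fga.HShift.subsingleton_of_iso e i (hq p hp i hi)
  choose q hq using hser
  obtain ⟨p₂, hp₂⟩ : ∃ p₂ : ℤ, ∀ s : ℕ, s < r → q s ≤ p₂ := by
    obtain ⟨M, hM⟩ := ((Set.finite_Iio r).image q).bddAbove
    exact ⟨M, fun s hs => hM ⟨s, hs, rfl⟩⟩
  refine ⟨max p₁ p₂, fun s p hp i hi => ?_⟩
  suffices H : Subsingleton (Coh.HH Z (rep (l ^ s * h ^ p)) i) by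
    obtain ⟨e⟩ := tw_unit (l ^ s * h ^ p)
    exact Fga.HShift.subsingleton_of_iso e.symm i H
  induction s using Nat.strong_induction_on with
  | _ s ih =>
    rcases lt_or_ge s r with hs | hs
    · exact hq s p ((hp₂ s hs).trans ((le_max_right _ _).trans hp)) i hi
    · have h1 := hse.unit_cut (l ^ (s - r) * h ^ p)
      have h2 : l ^ (s - r) * h ^ p * l ^ r = l ^ s * h ^ p := by
        rw [mul_right_comm, ← pow_add, Nat.sub_add_cancel hs]
      rw [h2] at h1
      exact h1.van₂ i (ih (s - r) (by omega)) (H1 (s - r) p ((le_max_left _ _).trans hp) i hi)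

end Int

section Induction

variable (k : Type u) [Field k]

/-- The statement for integral schemes of dimension `< n`. -/
def StmtInt (n : ℕ) : Prop :=
  ∀ (X : Scheme.{u}) [X.Over (Spec (CommRingCat.of k))] [IsProper (X ↘ Spec (CommRingCat.of k))] [IsIntegral X],
    topologicalKrullDim X < (n : WithBot ℕ∞) → ∀ l h : Pic X, CohB1.IsAmple (rep l) → CohB1.IsAmple (rep h) →
      ∀ F : X.Modules, Coh.IsCoh F → VG l h F 1

theorem isAmple_pull {X Z : Scheme.{u}} (i : Z ⟶ X) [IsClosedImmersion i] {h : Pic X}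
    (hh : CohB1.IsAmple (rep h)) : CohB1.IsAmple (rep (pull i h)) := by
  have h1 := CohqB.AmpCocycle.isAmple_pullback i hh
  have h2 : pull i h = mk _ (Fdesc.LocGen.isInvertible_pullback i (rep_inv h)) := by
    have := pull_mk i (rep_inv h)
    rwa [mk_rep] at this
  rw [h2]
  exact Pic13.H116.Final.isAmple_rep h1

/-- Torsion modules. -/
theorem vg_torsion {n : ℕ} (IH : StmtInt k n) {X : Scheme.{u}} [X.Over (Spec (CommRingCat.of k))]
    [IsProper (X ↘ Spec (CommRingCat.of k))] [IsIntegral X]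
    (hX : topologicalKrullDim X < ((n + 1 : ℕ) : WithBot ℕ∞)) {l h : Pic X} (hl : CohB1.IsAmple (rep l))
    (hh : CohB1.IsAmple (rep h)) (F : X.Modules)
    (hF : Coh.IsCoh F) (hη : genericPoint X ∉ CohB1.support F) : VG l h F 1 := by
  have hNoeth : IsNoetherian X := VarietyA.TwistExist.isNoetherian k X
  refine S0027.result X (fun F => genericPoint X ∉ CohB1.support F → VG l h F 1)
    ?_ ?_ ?_ F hF hη
  · rintro M N ⟨e⟩ h hN
    exact (h (by rwa [CohqB.DevSupport.support_congr e])).congr ⟨e⟩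
  · intro S hS c1 c2 c3 h1 h3 h2
    rw [CohqB.DevSupport.support_shortExact hS] at h2
    exact VG.mid (SE.of hS) (h1 fun h => h2 (Or.inl h)) (h3 fun h => h2 (Or.inr h))
  · intro Z i hi hZ I ι hι hI h
    by_cases hr : Set.range i = Set.univ
    · have h1 : i (genericPoint Z) = genericPoint X := by
        have h2 : IsGenericPoint (i (genericPoint Z)) (Set.univ : Set X) := by
          have := Fga.MultInt.closure_generic X Z i
          rw [hr] at this
          exact this
        exact h2.eq (genericPoint_spec X)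
      have h2 : genericPoint Z ∉ CohB1.support I := by
        intro h3
        apply h
        rw [CohqB.DevSimple.support_push, ← h1]
        exact ⟨_, h3, rfl⟩
      exact VG.of_isZero ((Coh.push i).map_isZero (isZero_of_torsion ι h2)) 1
    · have hZN : IsLocallyNoetherian Z := LocallyOfFiniteType.isLocallyNoetherian i
      let _ : Z.Over (Spec (CommRingCat.of k)) := ⟨i ≫ (X ↘ Spec (CommRingCat.of k))⟩
      have hZp : IsProper (Z ↘ Spec (CommRingCat.of k)) :=
        inferInstanceAs (IsProper (i ≫ (X ↘ Spec (CommRingCat.of k))))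
      exact VG.push k i rfl (IH Z (dim_lt_of_range_ne hX i hr) _ _ (isAmple_pull i hl) (isAmple_pull i hh) I
        (Pic13.H946.CoreDev.isCoh_ideal ι hI))

theorem stmtInt_succ {n : ℕ} (IH : StmtInt k n) : StmtInt k (n + 1) := by
  intro X _ _ _ hX l h hl hh F hF
  have hNoeth : IsNoetherian X := VarietyA.TwistExist.isNoetherian k X
  refine vg_of_structure k hh (int_step k hl hh fun G hG hne => vg_torsion k IH hX hl hh G hG fun hη => hne ?_) F hF
  have hcl := Ega3B.Devissage.isClosed_support hG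
  have h1 := hcl.closure_subset_iff.mpr (Set.singleton_subset_iff.mpr hη)
  have h2 : closure {genericPoint X} = (Set.univ : Set X) := genericPoint_spec X
  rw [h2] at h1
  exact Set.univ_subset_iff.mp h1

theorem stmtInt : ∀ n : ℕ, StmtInt k n := by
  intro n
  induction n with
  | zero =>
    intro X _ _ _ hX
    exfalso
    have := Fga.IntNum0.topologicalKrullDim_nonneg X
    exact absurd hX (not_lt.mpr (by exact_mod_cast this))
  | succ n ih => exact stmtInt_succ k ih

/-- **Uniform Serre vanishing for two ample classes.** -/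
theorem vanishing {X : Scheme.{u}} [X.Over (Spec (CommRingCat.of k))]
    [IsProper (X ↘ Spec (CommRingCat.of k))] {l h : Pic X} (hl : CohB1.IsAmple (rep l))
    (hh : CohB1.IsAmple (rep h)) (F : X.Modules) (hF : Coh.IsCoh F) : VG l h F 1 := by
  have hNoeth : IsNoetherian X := VarietyA.TwistExist.isNoetherian k X
  obtain ⟨d, hd⟩ := EtpbcA.CdFinDim.exists_dim_le (X ↘ Spec (CommRingCat.of k))
  rcases isEmpty_or_nonempty X with hemp | hne
  · refine VG.of_isZero (CohqB.DevSupport.isZero_of_support_eq_empty ?_) 1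
    exact Set.eq_empty_of_isEmpty _
  · refine S0027.result X (fun F => VG l h F 1) ?_ ?_ ?_ F hF
    · rintro M N e h
      exact h.congr e
    · intro S hS c1 c2 c3 h1 h3
      exact VG.mid (SE.of hS) h1 h3
    · intro Z i hi hZ I ι hι hIq
      have hZN : IsLocallyNoetherian Z := LocallyOfFiniteType.isLocallyNoetherian i
      let _ : Z.Over (Spec (CommRingCat.of k)) := ⟨i ≫ (X ↘ Spec (CommRingCat.of k))⟩
      have hZp : IsProper (Z ↘ Spec (CommRingCat.of k)) :=
        inferInstanceAs (IsProper (i ≫ (X ↘ Spec (CommRingCat.of k))))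
      refine VG.push k i rfl (stmtInt k (d + 1) Z ?_ _ _ (isAmple_pull i hl) (isAmple_pull i hh) I
        (Pic13.H946.CoreDev.isCoh_ideal ι hIq))
      refine lt_of_le_of_lt (i.isClosedEmbedding.isInducing.topologicalKrullDim_le.trans hd) ?_
      exact_mod_cast Nat.lt_succ_self d

end Induction

end K511.TwoVan
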